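import Cfsg.Agent.Lib.Helper4.TC.Perm
import Cfsg.Agent.Lib.Helper6.M22TC.Cod10
import Cfsg.Agent.Lib.Helper6.M22TC.T4Fin
import Cfsg.Agent.Lib.Helper6.M22TC.T4CM0
import Cfsg.Agent.Lib.Helper6.M22TC.T4CE0x0
import Cfsg.Agent.Lib.Helper6.M22TC.T4CE1x0
import Cfsg.Agent.Lib.Helper6.M22TC.T4CE2x0
import Cfsg.Agent.Lib.Helper6.M22TC.T4CE3x0
import Cfsg.Agent.Lib.Helper6.M22TC.T4CE4x0
import Cfsg.Agent.Lib.Helper6.M22TC.T4CE5x0
import Cfsg.Agent.Lib.Helper6.M22TC.T4CE6x0
import Cfsg.Agent.Lib.Helper6.M22TC.T4CE7x0
import Cfsg.Agent.Lib.Helper6.M22TC.T4CE8x0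
import Cfsg.Agent.Lib.Helper6.M22TC.T4CE9x0
import Cfsg.Agent.Lib.Helper6.M22TC.T4CE10x0
import Cfsg.Agent.Lib.Helper6.M22TC.T4CE11x0
import Cfsg.Agent.Lib.Helper6.M22TC.T4CE12x0
import Cfsg.Agent.Lib.Helper6.M22TC.T4CE13x0
import Cfsg.Agent.Lib.Helper6.M22TC.T4CE14x0
import Cfsg.Agent.Lib.Helper6.M22TC.T4CE15x0
import Cfsg.Agent.Lib.Helper6.M22TC.T4CE16x0
import Cfsg.Agent.Lib.Helper6.M22TC.T4CE17x0
import Cfsg.Agent.Lib.Helper6.M22TC.T4CE18x0
import Cfsg.Agent.Lib.Helper6.M22TC.T4CE19x0
import Cfsg.Agent.Lib.Helper6.M22TC.T4CF0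

set_option autoImplicit false
set_option maxRecDepth 100000
set_option linter.unusedVariables false

namespace Cfsg.Agent.Lib.Helper6.M22TC.T4

open Cfsg.Agent.Helper4.TC

theorem allE0 : ∀ k, k < 2048 → justE data 0 k = true := by
  intro k hk
  by_cases hh1 : k < 1235
  · skip
    exact edgeRange_sound data 0 1235 0 e0_c0 k (by omega) (by omega)
  · skip
    exact edgeRange_sound data 0 813 1235 e0_c1 k (by omega) (by omega)

theorem allE1 : ∀ k, k < 2048 → justE data 1 k = true := by
  intro k hk
  by_cases hh1 : k < 1235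
  · skip
    exact edgeRange_sound data 1 1235 0 e1_c0 k (by omega) (by omega)
  · skip
    exact edgeRange_sound data 1 813 1235 e1_c1 k (by omega) (by omega)

theorem allE2 : ∀ k, k < 2048 → justE data 2 k = true := by
  intro k hk
  by_cases hh1 : k < 1235
  · skip
    exact edgeRange_sound data 2 1235 0 e2_c0 k (by omega) (by omega)
  · skip
    exact edgeRange_sound data 2 813 1235 e2_c1 k (by omega) (by omega)

theorem allE3 : ∀ k, k < 2048 → justE data 3 k = true := by
  intro k hk
  by_cases hh1 : k < 1235
  · skip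
    exact edgeRange_sound data 3 1235 0 e3_c0 k (by omega) (by omega)
  · skip
    exact edgeRange_sound data 3 813 1235 e3_c1 k (by omega) (by omega)

theorem allE4 : ∀ k, k < 2048 → justE data 4 k = true := by
  intro k hk
  by_cases hh1 : k < 1235
  · skip
    exact edgeRange_sound data 4 1235 0 e4_c0 k (by omega) (by omega)
  · skip
    exact edgeRange_sound data 4 813 1235 e4_c1 k (by omega) (by omega)

theorem allE5 : ∀ k, k < 2048 → justE data 5 k = true := by
  intro k hk
  by_cases hh1 : k < 1235
  · skip
    exact edgeRange_sound data 5 1235 0 e5_c0 k (by omega) (by omega)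
  · skip
    exact edgeRange_sound data 5 813 1235 e5_c1 k (by omega) (by omega)

theorem allE6 : ∀ k, k < 2048 → justE data 6 k = true := by
  intro k hk
  by_cases hh1 : k < 1235
  · skip
    exact edgeRange_sound data 6 1235 0 e6_c0 k (by omega) (by omega)
  · skip
    exact edgeRange_sound data 6 813 1235 e6_c1 k (by omega) (by omega)

theorem allE7 : ∀ k, k < 2048 → justE data 7 k = true := by
  intro k hk
  by_cases hh1 : k < 1235
  · skip
    exact edgeRange_sound data 7 1235 0 e7_c0 k (by omega) (by omega)
  · skip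
    exact edgeRange_sound data 7 813 1235 e7_c1 k (by omega) (by omega)

theorem allE8 : ∀ k, k < 2048 → justE data 8 k = true := by
  intro k hk
  by_cases hh1 : k < 1235
  · skip
    exact edgeRange_sound data 8 1235 0 e8_c0 k (by omega) (by omega)
  · skip
    exact edgeRange_sound data 8 813 1235 e8_c1 k (by omega) (by omega)

theorem allE9 : ∀ k, k < 2048 → justE data 9 k = true := by
  intro k hk
  by_cases hh1 : k < 1235
  · skip
    exact edgeRange_sound data 9 1235 0 e9_c0 k (by omega) (by omega)
  · skip
    exact edgeRange_sound data 9 813 1235 e9_c1 k (by omega) (by omega)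

theorem allE10 : ∀ k, k < 2048 → justE data 10 k = true := by
  intro k hk
  by_cases hh1 : k < 1235
  · skip
    exact edgeRange_sound data 10 1235 0 e10_c0 k (by omega) (by omega)
  · skip
    exact edgeRange_sound data 10 813 1235 e10_c1 k (by omega) (by omega)

theorem allE11 : ∀ k, k < 2048 → justE data 11 k = true := by
  intro k hk
  by_cases hh1 : k < 1235
  · skip
    exact edgeRange_sound data 11 1235 0 e11_c0 k (by omega) (by omega)
  · skip
    exact edgeRange_sound data 11 813 1235 e11_c1 k (by omega) (by omega)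

theorem allE12 : ∀ k, k < 2048 → justE data 12 k = true := by
  intro k hk
  by_cases hh1 : k < 1235
  · skip
    exact edgeRange_sound data 12 1235 0 e12_c0 k (by omega) (by omega)
  · skip
    exact edgeRange_sound data 12 813 1235 e12_c1 k (by omega) (by omega)

theorem allE13 : ∀ k, k < 2048 → justE data 13 k = true := by
  intro k hk
  by_cases hh1 : k < 1235
  · skip
    exact edgeRange_sound data 13 1235 0 e13_c0 k (by omega) (by omega)
  · skip
    exact edgeRange_sound data 13 813 1235 e13_c1 k (by omega) (by omega)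

theorem allE14 : ∀ k, k < 2048 → justE data 14 k = true := by
  intro k hk
  by_cases hh1 : k < 1235
  · skip
    exact edgeRange_sound data 14 1235 0 e14_c0 k (by omega) (by omega)
  · skip
    exact edgeRange_sound data 14 813 1235 e14_c1 k (by omega) (by omega)

theorem allE15 : ∀ k, k < 2048 → justE data 15 k = true := by
  intro k hk
  by_cases hh1 : k < 1235
  · skip
    exact edgeRange_sound data 15 1235 0 e15_c0 k (by omega) (by omega)
  · skip
    exact edgeRange_sound data 15 813 1235 e15_c1 k (by omega) (by omega)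

theorem allE16 : ∀ k, k < 2048 → justE data 16 k = true := by
  intro k hk
  by_cases hh1 : k < 1235
  · skip
    exact edgeRange_sound data 16 1235 0 e16_c0 k (by omega) (by omega)
  · skip
    exact edgeRange_sound data 16 813 1235 e16_c1 k (by omega) (by omega)

theorem allE17 : ∀ k, k < 2048 → justE data 17 k = true := by
  intro k hk
  by_cases hh1 : k < 1235
  · skip
    exact edgeRange_sound data 17 1235 0 e17_c0 k (by omega) (by omega)
  · skip
    exact edgeRange_sound data 17 813 1235 e17_c1 k (by omega) (by omega)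

theorem allE18 : ∀ k, k < 2048 → justE data 18 k = true := by
  intro k hk
  by_cases hh1 : k < 1235
  · skip
    exact edgeRange_sound data 18 1235 0 e18_c0 k (by omega) (by omega)
  · skip
    exact edgeRange_sound data 18 813 1235 e18_c1 k (by omega) (by omega)

theorem allE19 : ∀ k, k < 2048 → justE data 19 k = true := by
  intro k hk
  by_cases hh1 : k < 1235
  · skip
    exact edgeRange_sound data 19 1235 0 e19_c0 k (by omega) (by omega)
  · skip
    exact edgeRange_sound data 19 813 1235 e19_c1 k (by omega) (by omega)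

theorem allE : ∀ c k, c < data.nc → k ≤ data.mask → justE data c k = true := by
  intro c k hc hk
  have hk' : k < 2048 := Nat.lt_succ_of_le hk
  have hc' : c < 20 := hc
  interval_cases c
  · exact allE0 k hk'
  · exact allE1 k hk'
  · exact allE2 k hk'
  · exact allE3 k hk'
  · exact allE4 k hk'
  · exact allE5 k hk'
  · exact allE6 k hk'
  · exact allE7 k hk'
  · exact allE8 k hk'
  · exact allE9 k hk'
  · exact allE10 k hk'
  · exact allE11 k hk'
  · exact allE12 k hk'
  · exact allE13 k hk'
  · exact allE14 k hk'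
  · exact allE15 k hk'
  · exact allE16 k hk'
  · exact allE17 k hk'
  · exact allE18 k hk'
  · exact allE19 k hk'

theorem allM : ∀ k, k ≤ data.mask → justM data k = true := by
  intro k hk
  have hk' : k < 2048 := Nat.lt_succ_of_le hk
  by_cases hh1 : k < 1235
  · skip
    exact mergeRange_sound data 1235 0 m_c0 k (by omega) (by omega)
  · skip
    exact mergeRange_sound data 813 1235 m_c1 k (by omega) (by omega)

theorem rows_all : ∀ k, k < M → isFinal data k = true → rowOK data M k data.nc = true := by
  intro k hk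
  have hk' : k < 1235 := hk
  exact rowsRange_sound data M 1235 0 rows0 k (by omega) (by omega)

theorem cnt_ok : countFinal data M 0 0 = n := by
  exact cnt0

theorem bound : Finite (PresentedGroup (relSet Cfsg.Agent.Lib.Helper6.M22TC.Cod10.dec bases) ⧸ (Subgroup.closure (relSet Cfsg.Agent.Lib.Helper6.M22TC.Cod10.dec subsL)).map (PresentedGroup.mk (relSet Cfsg.Agent.Lib.Helper6.M22TC.Cod10.dec bases))) ∧
    Nat.card (PresentedGroup (relSet Cfsg.Agent.Lib.Helper6.M22TC.Cod10.dec bases) ⧸ (Subgroup.closure (relSet Cfsg.Agent.Lib.Helper6.M22TC.Cod10.dec subsL)).map (PresentedGroup.mk (relSet Cfsg.Agent.Lib.Helper6.M22TC.Cod10.dec bases))) ≤ n :=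
  tc_bound data bases subsL rots Cfsg.Agent.Lib.Helper6.M22TC.Cod10.coding (mem_relSet bases) (mem_relSet subsL) words_ok allE allM M n fin0_ok (by decide) (by decide) cnt_ok rows_all

end Cfsg.Agent.Lib.Helper6.M22TC.T4
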