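import Cfsg.Agent.Lib.Helper4.TC.Perm
import Cfsg.Agent.Lib.Helper6.M22TC.Cod6
import Cfsg.Agent.Lib.Helper6.M22TC.T5Fin
import Cfsg.Agent.Lib.Helper6.M22TC.T5CM0
import Cfsg.Agent.Lib.Helper6.M22TC.T5CE0x0
import Cfsg.Agent.Lib.Helper6.M22TC.T5CE1x0
import Cfsg.Agent.Lib.Helper6.M22TC.T5CE2x0
import Cfsg.Agent.Lib.Helper6.M22TC.T5CE3x0
import Cfsg.Agent.Lib.Helper6.M22TC.T5CE4x0
import Cfsg.Agent.Lib.Helper6.M22TC.T5CE5x0
import Cfsg.Agent.Lib.Helper6.M22TC.T5CE6x0
import Cfsg.Agent.Lib.Helper6.M22TC.T5CE7x0
import Cfsg.Agent.Lib.Helper6.M22TC.T5CE8x0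
import Cfsg.Agent.Lib.Helper6.M22TC.T5CE9x0
import Cfsg.Agent.Lib.Helper6.M22TC.T5CE10x0
import Cfsg.Agent.Lib.Helper6.M22TC.T5CE11x0
import Cfsg.Agent.Lib.Helper6.M22TC.T5CF0

set_option autoImplicit false
set_option maxRecDepth 100000
set_option linter.unusedVariables false

namespace Cfsg.Agent.Lib.Helper6.M22TC.T5

open Cfsg.Agent.Helper4.TC

theorem allE0 : ∀ k, k < 2048 → justE data 0 k = true := by
  intro k hk
  by_cases hh1 : k < 1174
  · skip
    exact edgeRange_sound data 0 1174 0 e0_c0 k (by omega) (by omega)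
  · skip
    exact edgeRange_sound data 0 874 1174 e0_c1 k (by omega) (by omega)

theorem allE1 : ∀ k, k < 2048 → justE data 1 k = true := by
  intro k hk
  by_cases hh1 : k < 1174
  · skip
    exact edgeRange_sound data 1 1174 0 e1_c0 k (by omega) (by omega)
  · skip
    exact edgeRange_sound data 1 874 1174 e1_c1 k (by omega) (by omega)

theorem allE2 : ∀ k, k < 2048 → justE data 2 k = true := by
  intro k hk
  by_cases hh1 : k < 1174
  · skip
    exact edgeRange_sound data 2 1174 0 e2_c0 k (by omega) (by omega)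
  · skip
    exact edgeRange_sound data 2 874 1174 e2_c1 k (by omega) (by omega)

theorem allE3 : ∀ k, k < 2048 → justE data 3 k = true := by
  intro k hk
  by_cases hh1 : k < 1174
  · skip
    exact edgeRange_sound data 3 1174 0 e3_c0 k (by omega) (by omega)
  · skip
    exact edgeRange_sound data 3 874 1174 e3_c1 k (by omega) (by omega)

theorem allE4 : ∀ k, k < 2048 → justE data 4 k = true := by
  intro k hk
  by_cases hh1 : k < 1174
  · skip
    exact edgeRange_sound data 4 1174 0 e4_c0 k (by omega) (by omega)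
  · skip
    exact edgeRange_sound data 4 874 1174 e4_c1 k (by omega) (by omega)

theorem allE5 : ∀ k, k < 2048 → justE data 5 k = true := by
  intro k hk
  by_cases hh1 : k < 1174
  · skip
    exact edgeRange_sound data 5 1174 0 e5_c0 k (by omega) (by omega)
  · skip
    exact edgeRange_sound data 5 874 1174 e5_c1 k (by omega) (by omega)

theorem allE6 : ∀ k, k < 2048 → justE data 6 k = true := by
  intro k hk
  by_cases hh1 : k < 1174
  · skip
    exact edgeRange_sound data 6 1174 0 e6_c0 k (by omega) (by omega)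
  · skip
    exact edgeRange_sound data 6 874 1174 e6_c1 k (by omega) (by omega)

theorem allE7 : ∀ k, k < 2048 → justE data 7 k = true := by
  intro k hk
  by_cases hh1 : k < 1174
  · skip
    exact edgeRange_sound data 7 1174 0 e7_c0 k (by omega) (by omega)
  · skip
    exact edgeRange_sound data 7 874 1174 e7_c1 k (by omega) (by omega)

theorem allE8 : ∀ k, k < 2048 → justE data 8 k = true := by
  intro k hk
  by_cases hh1 : k < 1174
  · skip
    exact edgeRange_sound data 8 1174 0 e8_c0 k (by omega) (by omega)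
  · skip
    exact edgeRange_sound data 8 874 1174 e8_c1 k (by omega) (by omega)

theorem allE9 : ∀ k, k < 2048 → justE data 9 k = true := by
  intro k hk
  by_cases hh1 : k < 1174
  · skip
    exact edgeRange_sound data 9 1174 0 e9_c0 k (by omega) (by omega)
  · skip
    exact edgeRange_sound data 9 874 1174 e9_c1 k (by omega) (by omega)

theorem allE10 : ∀ k, k < 2048 → justE data 10 k = true := by
  intro k hk
  by_cases hh1 : k < 1174
  · skip
    exact edgeRange_sound data 10 1174 0 e10_c0 k (by omega) (by omega)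
  · skip
    exact edgeRange_sound data 10 874 1174 e10_c1 k (by omega) (by omega)

theorem allE11 : ∀ k, k < 2048 → justE data 11 k = true := by
  intro k hk
  by_cases hh1 : k < 1174
  · skip
    exact edgeRange_sound data 11 1174 0 e11_c0 k (by omega) (by omega)
  · skip
    exact edgeRange_sound data 11 874 1174 e11_c1 k (by omega) (by omega)

theorem allE : ∀ c k, c < data.nc → k ≤ data.mask → justE data c k = true := by
  intro c k hc hk
  have hk' : k < 2048 := Nat.lt_succ_of_le hk
  have hc' : c < 12 := hc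
  interval_cases c
  · exact allE0 k hk'
  · exact allE1 k hk'
  · exact allE2 k hk'
  · exact allE3 k hk'
  · exact allE4 k hk'
  · exact allE5 k hk'
  · exact allE6 k hk'
  · exact allE7 k hk'
  · exact allE8 k hk'
  · exact allE9 k hk'
  · exact allE10 k hk'
  · exact allE11 k hk'

theorem allM : ∀ k, k ≤ data.mask → justM data k = true := by
  intro k hk
  have hk' : k < 2048 := Nat.lt_succ_of_le hk
  by_cases hh1 : k < 1174
  · skip
    exact mergeRange_sound data 1174 0 m_c0 k (by omega) (by omega)
  · skip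
    exact mergeRange_sound data 874 1174 m_c1 k (by omega) (by omega)

theorem rows_all : ∀ k, k < M → isFinal data k = true → rowOK data M k data.nc = true := by
  intro k hk
  have hk' : k < 1174 := hk
  exact rowsRange_sound data M 1174 0 rows0 k (by omega) (by omega)

theorem cnt_ok : countFinal data M 0 0 = n := by
  exact cnt0

theorem bound : Finite (PresentedGroup (relSet Cfsg.Agent.Lib.Helper6.M22TC.Cod6.dec bases) ⧸ (Subgroup.closure (relSet Cfsg.Agent.Lib.Helper6.M22TC.Cod6.dec subsL)).map (PresentedGroup.mk (relSet Cfsg.Agent.Lib.Helper6.M22TC.Cod6.dec bases))) ∧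
    Nat.card (PresentedGroup (relSet Cfsg.Agent.Lib.Helper6.M22TC.Cod6.dec bases) ⧸ (Subgroup.closure (relSet Cfsg.Agent.Lib.Helper6.M22TC.Cod6.dec subsL)).map (PresentedGroup.mk (relSet Cfsg.Agent.Lib.Helper6.M22TC.Cod6.dec bases))) ≤ n :=
  tc_bound data bases subsL rots Cfsg.Agent.Lib.Helper6.M22TC.Cod6.coding (mem_relSet bases) (mem_relSet subsL) words_ok allE allM M n fin0_ok (by decide) (by decide) cnt_ok rows_all

end Cfsg.Agent.Lib.Helper6.M22TC.T5
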