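import Cfsg.Agent.Lib.Helper6.M22TC.T1D
import Cfsg.Agent.Lib.Helper4.TC.Strict

set_option autoImplicit false
set_option maxRecDepth 100000
set_option linter.unusedVariables false
set_option Elab.async false

namespace Cfsg.Agent.Lib.Helper6.M22TC.T1

open Cfsg.Agent.Helper4.TC

theorem cnt0 : countFinal data 1370 0 0 = 352 := countFinal_strict data 1370 0 0 352 (by decide +kernel)
theorem rows0 : rowsRange data 1370 1370 0 = true := rowsRange_strict data 1370 1370 0 (by decide +kernel)

end Cfsg.Agent.Lib.Helper6.M22TC.T1
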