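import Cfsg.Agent.Lib.Helper6.M22TC.T1T0

set_option autoImplicit false
set_option maxRecDepth 100000
set_option linter.unusedVariables false

namespace Cfsg.Agent.Lib.Helper6.M22TC.T1

open Cfsg.Agent.Helper4.TC

noncomputable def ecol0 (b : ℕ) : ℕ := (Bool.rec (motive := fun _ => ℕ) (e0_0) (e0_1) (Nat.ble 1 b))
noncomputable def jcol0 (b : ℕ) : ℕ := (Bool.rec (motive := fun _ => ℕ) (j0_0) (j0_1) (Nat.ble 1 b))
noncomputable def ecol1 (b : ℕ) : ℕ := (Bool.rec (motive := fun _ => ℕ) (e1_0) (e1_1) (Nat.ble 1 b))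
noncomputable def jcol1 (b : ℕ) : ℕ := (Bool.rec (motive := fun _ => ℕ) (j1_0) (j1_1) (Nat.ble 1 b))
noncomputable def ecol2 (b : ℕ) : ℕ := (Bool.rec (motive := fun _ => ℕ) (e2_0) (e2_1) (Nat.ble 1 b))
noncomputable def jcol2 (b : ℕ) : ℕ := (Bool.rec (motive := fun _ => ℕ) (j2_0) (j2_1) (Nat.ble 1 b))
noncomputable def ecol3 (b : ℕ) : ℕ := (Bool.rec (motive := fun _ => ℕ) (e3_0) (e3_1) (Nat.ble 1 b))
noncomputable def jcol3 (b : ℕ) : ℕ := (Bool.rec (motive := fun _ => ℕ) (j3_0) (j3_1) (Nat.ble 1 b))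
noncomputable def ecol4 (b : ℕ) : ℕ := (Bool.rec (motive := fun _ => ℕ) (e4_0) (e4_1) (Nat.ble 1 b))
noncomputable def jcol4 (b : ℕ) : ℕ := (Bool.rec (motive := fun _ => ℕ) (j4_0) (j4_1) (Nat.ble 1 b))
noncomputable def ecol5 (b : ℕ) : ℕ := (Bool.rec (motive := fun _ => ℕ) (e5_0) (e5_1) (Nat.ble 1 b))
noncomputable def jcol5 (b : ℕ) : ℕ := (Bool.rec (motive := fun _ => ℕ) (j5_0) (j5_1) (Nat.ble 1 b))
noncomputable def ecol6 (b : ℕ) : ℕ := (Bool.rec (motive := fun _ => ℕ) (e6_0) (e6_1) (Nat.ble 1 b))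
noncomputable def jcol6 (b : ℕ) : ℕ := (Bool.rec (motive := fun _ => ℕ) (j6_0) (j6_1) (Nat.ble 1 b))
noncomputable def ecol7 (b : ℕ) : ℕ := (Bool.rec (motive := fun _ => ℕ) (e7_0) (e7_1) (Nat.ble 1 b))
noncomputable def jcol7 (b : ℕ) : ℕ := (Bool.rec (motive := fun _ => ℕ) (j7_0) (j7_1) (Nat.ble 1 b))
noncomputable def ecol8 (b : ℕ) : ℕ := (Bool.rec (motive := fun _ => ℕ) (e8_0) (e8_1) (Nat.ble 1 b))
noncomputable def jcol8 (b : ℕ) : ℕ := (Bool.rec (motive := fun _ => ℕ) (j8_0) (j8_1) (Nat.ble 1 b))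
noncomputable def ecol9 (b : ℕ) : ℕ := (Bool.rec (motive := fun _ => ℕ) (e9_0) (e9_1) (Nat.ble 1 b))
noncomputable def jcol9 (b : ℕ) : ℕ := (Bool.rec (motive := fun _ => ℕ) (j9_0) (j9_1) (Nat.ble 1 b))
noncomputable def ecol10 (b : ℕ) : ℕ := (Bool.rec (motive := fun _ => ℕ) (e10_0) (e10_1) (Nat.ble 1 b))
noncomputable def jcol10 (b : ℕ) : ℕ := (Bool.rec (motive := fun _ => ℕ) (j10_0) (j10_1) (Nat.ble 1 b))
noncomputable def ecol11 (b : ℕ) : ℕ := (Bool.rec (motive := fun _ => ℕ) (e11_0) (e11_1) (Nat.ble 1 b))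
noncomputable def jcol11 (b : ℕ) : ℕ := (Bool.rec (motive := fun _ => ℕ) (j11_0) (j11_1) (Nat.ble 1 b))
noncomputable def ecol12 (b : ℕ) : ℕ := (Bool.rec (motive := fun _ => ℕ) (e12_0) (e12_1) (Nat.ble 1 b))
noncomputable def jcol12 (b : ℕ) : ℕ := (Bool.rec (motive := fun _ => ℕ) (j12_0) (j12_1) (Nat.ble 1 b))
noncomputable def ecol13 (b : ℕ) : ℕ := (Bool.rec (motive := fun _ => ℕ) (e13_0) (e13_1) (Nat.ble 1 b))
noncomputable def jcol13 (b : ℕ) : ℕ := (Bool.rec (motive := fun _ => ℕ) (j13_0) (j13_1) (Nat.ble 1 b))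
noncomputable def ecol14 (b : ℕ) : ℕ := (Bool.rec (motive := fun _ => ℕ) (e14_0) (e14_1) (Nat.ble 1 b))
noncomputable def jcol14 (b : ℕ) : ℕ := (Bool.rec (motive := fun _ => ℕ) (j14_0) (j14_1) (Nat.ble 1 b))
noncomputable def ecol15 (b : ℕ) : ℕ := (Bool.rec (motive := fun _ => ℕ) (e15_0) (e15_1) (Nat.ble 1 b))
noncomputable def jcol15 (b : ℕ) : ℕ := (Bool.rec (motive := fun _ => ℕ) (j15_0) (j15_1) (Nat.ble 1 b))
noncomputable def ecol16 (b : ℕ) : ℕ := (Bool.rec (motive := fun _ => ℕ) (e16_0) (e16_1) (Nat.ble 1 b))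
noncomputable def jcol16 (b : ℕ) : ℕ := (Bool.rec (motive := fun _ => ℕ) (j16_0) (j16_1) (Nat.ble 1 b))
noncomputable def ecol17 (b : ℕ) : ℕ := (Bool.rec (motive := fun _ => ℕ) (e17_0) (e17_1) (Nat.ble 1 b))
noncomputable def jcol17 (b : ℕ) : ℕ := (Bool.rec (motive := fun _ => ℕ) (j17_0) (j17_1) (Nat.ble 1 b))
noncomputable def ecol18 (b : ℕ) : ℕ := (Bool.rec (motive := fun _ => ℕ) (e18_0) (e18_1) (Nat.ble 1 b))
noncomputable def jcol18 (b : ℕ) : ℕ := (Bool.rec (motive := fun _ => ℕ) (j18_0) (j18_1) (Nat.ble 1 b))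
noncomputable def ecol19 (b : ℕ) : ℕ := (Bool.rec (motive := fun _ => ℕ) (e19_0) (e19_1) (Nat.ble 1 b))
noncomputable def jcol19 (b : ℕ) : ℕ := (Bool.rec (motive := fun _ => ℕ) (j19_0) (j19_1) (Nat.ble 1 b))
noncomputable def eT (c b : ℕ) : ℕ := (Bool.rec (motive := fun _ => ℕ) (Bool.rec (motive := fun _ => ℕ) (Bool.rec (motive := fun _ => ℕ) (Bool.rec (motive := fun _ => ℕ) (Bool.rec (motive := fun _ => ℕ) (ecol0 b) (ecol1 b) (Nat.ble 1 c)) (Bool.rec (motive := fun _ => ℕ) (ecol2 b) (ecol3 b) (Nat.ble 3 c)) (Nat.ble 2 c)) (Bool.rec (motive := fun _ => ℕ) (Bool.rec (motive := fun _ => ℕ) (ecol4 b) (ecol5 b) (Nat.ble 5 c)) (Bool.rec (motive := fun _ => ℕ) (ecol6 b) (ecol7 b) (Nat.ble 7 c)) (Nat.ble 6 c)) (Nat.ble 4 c)) (Bool.rec (motive := fun _ => ℕ) (Bool.rec (motive := fun _ => ℕ) (Bool.rec (motive := fun _ => ℕ) (ecol8 b)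 (ecol9 b) (Nat.ble 9 c)) (Bool.rec (motive := fun _ => ℕ) (ecol10 b) (ecol11 b) (Nat.ble 11 c)) (Nat.ble 10 c)) (Bool.rec (motive := fun _ => ℕ) (Bool.rec (motive := fun _ => ℕ) (ecol12 b) (ecol13 b) (Nat.ble 13 c)) (Bool.rec (motive := fun _ => ℕ) (ecol14 b) (ecol15 b) (Nat.ble 15 c)) (Nat.ble 14 c)) (Nat.ble 12 c)) (Nat.ble 8 c)) (Bool.rec (motive := fun _ => ℕ) (Bool.rec (motive := fun _ => ℕ) (Bool.rec (motive := fun _ => ℕ) (Bool.rec (motive := fun _ => ℕ) (ecol16 b) (ecol17 b) (Nat.ble 17 c)) (Bool.rec (motive := fun _ => ℕ) (ecol18 b) (ecol19 b) (Nat.ble 19 c)) (Nat.ble 18 c)) (0) (Nat.ble 20 c)) (0) (Nat.ble 24 c)) (Nat.ble 16 c))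
noncomputable def jT (c b : ℕ) : ℕ := (Bool.rec (motive := fun _ => ℕ) (Bool.rec (motive := fun _ => ℕ) (Bool.rec (motive := fun _ => ℕ) (Bool.rec (motive := fun _ => ℕ) (Bool.rec (motive := fun _ => ℕ) (jcol0 b) (jcol1 b) (Nat.ble 1 c)) (Bool.rec (motive := fun _ => ℕ) (jcol2 b) (jcol3 b) (Nat.ble 3 c)) (Nat.ble 2 c)) (Bool.rec (motive := fun _ => ℕ) (Bool.rec (motive := fun _ => ℕ) (jcol4 b) (jcol5 b) (Nat.ble 5 c)) (Bool.rec (motive := fun _ => ℕ) (jcol6 b) (jcol7 b) (Nat.ble 7 c)) (Nat.ble 6 c)) (Nat.ble 4 c)) (Bool.rec (motive := fun _ => ℕ) (Bool.rec (motive := fun _ => ℕ) (Bool.rec (motive := fun _ => ℕ) (jcol8 b) (jcol9 b) (Nat.ble 9 c)) (Bool.rec (motive := fun _ => ℕ) (jcol10 b) (jcol11 b) (Nat.ble 11 c)) (Nat.ble 10 c)) (Bool.rec (motive := fun _ => ℕ) (Bool.rec (motive := fun _ => ℕ) (jcol12 b) (jcol13 b) (Nat.ble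 13 c)) (Bool.rec (motive := fun _ => ℕ) (jcol14 b) (jcol15 b) (Nat.ble 15 c)) (Nat.ble 14 c)) (Nat.ble 12 c)) (Nat.ble 8 c)) (Bool.rec (motive := fun _ => ℕ) (Bool.rec (motive := fun _ => ℕ) (Bool.rec (motive := fun _ => ℕ) (Bool.rec (motive := fun _ => ℕ) (jcol16 b) (jcol17 b) (Nat.ble 17 c)) (Bool.rec (motive := fun _ => ℕ) (jcol18 b) (jcol19 b) (Nat.ble 19 c)) (Nat.ble 18 c)) (0) (Nat.ble 20 c)) (0) (Nat.ble 24 c)) (Nat.ble 16 c))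
noncomputable def mgT (b : ℕ) : ℕ := (Bool.rec (motive := fun _ => ℕ) (m_0) (m_1) (Nat.ble 1 b))
noncomputable def jmT (b : ℕ) : ℕ := (Bool.rec (motive := fun _ => ℕ) (jm_0) (jm_1) (Nat.ble 1 b))
def rw0 : List ℕ := [0, 5, 1, 4, 4, 4]
def rw1 : List ℕ := [0, 4, 1, 5, 5, 5]
def rw2 : List ℕ := [0, 3, 1, 6, 3, 3, 3, 1, 2, 2, 1, 2]
def rw3 : List ℕ := [0, 2, 2, 2, 2, 1, 1, 1, 1, 8, 3, 3, 3]
def rw4 : List ℕ := [0, 4, 3, 19, 0, 0, 3, 0, 4, 3, 0, 0, 3]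
def rw5 : List ℕ := [0, 18, 1, 19]
def rw6 : List ℕ := [0, 19, 1, 18]
def rw7 : List ℕ := [0, 0, 5, 2, 1, 1, 3, 1, 4, 2, 1, 3, 5, 0, 2, 0, 0, 3, 4]
def rw8 : List ℕ := [0, 16, 1, 17]
def rw9 : List ℕ := [0, 2, 2, 2, 7, 0, 2, 1, 3, 0, 3, 3]
def rw10 : List ℕ := [0, 3, 4, 4, 1, 5, 5, 2, 1, 3, 5, 0, 2, 0, 0, 3, 1, 4, 2]
def rw11 : List ℕ := [0, 3, 3, 3, 1, 1, 1, 10, 3, 3, 3, 0, 2]
def rw12 : List ℕ := [0, 0, 0, 0, 0]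
def rw13 : List ℕ := [0, 2, 0, 0, 3, 0, 0, 2, 0, 0, 3, 13, 0]
def rw14 : List ℕ := [0, 2, 5, 3, 3, 0, 3, 4, 0, 3, 0, 5, 17]
def rw15 : List ℕ := [0, 3, 0, 5, 17, 0, 2, 5, 3, 3, 0, 3, 4]
def rw16 : List ℕ := [0, 0, 3, 4, 1, 1, 5, 2, 1, 1, 3, 1, 4, 2, 0, 3, 5, 0, 2]
def rw17 : List ℕ := [0, 0, 3, 13, 0, 0, 2, 0, 0, 3, 0, 0, 2]
def rw18 : List ℕ := [0, 2, 0, 3, 3, 3, 1, 1, 1, 10, 3, 3, 3]
def rw19 : List ℕ := [0, 3, 3, 0, 2, 2, 2, 7, 0, 2, 1, 3]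
def rw20 : List ℕ := [0, 4, 3, 0, 0, 3, 0, 4, 3, 19, 0, 0, 3]
def rw21 : List ℕ := [0, 3, 4, 4, 0, 5, 5, 2, 1, 3, 5, 0, 2, 1, 1, 3, 1, 4, 2]
def rw22 : List ℕ := [0, 0, 0, 0, 3, 3, 3, 3, 1, 2, 2, 2, 9]
def rw23 : List ℕ := [0, 3, 3, 3, 3, 1, 2, 2, 2, 9, 0, 0, 0]
def rw24 : List ℕ := [0, 2, 1, 1, 3, 1, 4, 2, 0, 3, 4, 4, 0, 5, 5, 2, 1, 3, 5]
def rw25 : List ℕ := [0, 0, 3, 4, 0, 0, 5, 2, 1, 1, 3, 1, 4, 2, 1, 3, 5, 0, 2]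
def rw26 : List ℕ := [0, 0, 0, 0, 0]
def rw27 : List ℕ := [0, 17, 1, 16]
def rw28 : List ℕ := [0, 0, 3, 1, 4, 2, 0, 3, 4, 4, 1, 5, 5, 2, 1, 3, 5, 0, 2]
def rw29 : List ℕ := [0, 3, 4, 0, 0, 5, 2, 1, 1, 3, 1, 4, 2, 1, 3, 5, 0, 2, 0]
def rw30 : List ℕ := [0, 3, 4, 0, 3, 0, 5, 17, 0, 2, 5, 3, 3]
def rw31 : List ℕ := [0, 0, 3, 0, 4, 3, 0, 0, 3, 0, 4, 3, 19]
def rw32 : List ℕ := [0, 0, 0, 3, 3, 3, 3, 1, 2, 2, 2, 9, 0]
def rw33 : List ℕ := [0, 0, 0, 0, 0]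
def rw34 : List ℕ := [0, 3, 5, 0, 2, 0, 0, 3, 4, 1, 1, 5, 2, 1, 1, 3, 1, 4, 2]
def rw35 : List ℕ := [1, 4, 4, 4, 0, 5]
def rw36 : List ℕ := [1, 1, 1, 1, 1]
def rw37 : List ℕ := [1, 3, 1, 2, 2, 2, 11, 0, 0, 0, 2, 2, 2]
def rw38 : List ℕ := [1, 2, 1, 5, 2, 1, 2, 2, 4, 3, 1, 16, 4]
def rw39 : List ℕ := [1, 4, 2, 0, 3, 4, 4, 0, 5, 5, 2, 1, 3, 5, 0, 2, 1, 1, 3]
def rw40 : List ℕ := [1, 3, 5, 0, 2, 0, 0, 3, 1, 4, 2, 0, 3, 4, 4, 1, 5, 5, 2]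
def rw41 : List ℕ := [1, 4, 2, 1, 3, 5, 0, 2, 0, 0, 3, 4, 0, 0, 5, 2, 1, 1, 3]
def rw42 : List ℕ := [1, 4, 2, 0, 3, 5, 0, 2, 0, 0, 3, 4, 1, 1, 5, 2, 1, 1, 3]
def rw43 : List ℕ := [1, 2, 2, 1, 2, 0, 3, 1, 6, 3, 3, 3]
def rw44 : List ℕ := [1, 3, 0, 3, 3, 0, 2, 2, 2, 7, 0, 2]
def rw45 : List ℕ := [1, 1, 18, 2, 5, 1, 2, 1, 1, 2, 5, 1, 2]
def rw46 : List ℕ := [1, 1, 2, 1, 1, 3, 1, 1, 12, 2, 1, 1, 3]
def rw47 : List ℕ := [1, 3, 1, 4, 2, 0, 3, 5, 0, 2, 0, 0, 3, 4, 1, 1, 5, 2, 1]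
def rw48 : List ℕ := [1, 1, 2, 5, 1, 2, 1, 1, 18, 2, 5, 1, 2]
def rw49 : List ℕ := [1, 5, 5, 5, 0, 4]
def rw50 : List ℕ := [1, 10, 3, 3, 3, 0, 2, 0, 3, 3, 3, 1, 1]
def rw51 : List ℕ := [1, 1, 1, 8, 3, 3, 3, 0, 2, 2, 2, 2, 1]
def rw52 : List ℕ := [1, 6, 3, 3, 3, 1, 2, 2, 1, 2, 0, 3]
def rw53 : List ℕ := [1, 1, 10, 3, 3, 3, 0, 2, 0, 3, 3, 3, 1]
def rw54 : List ℕ := [1, 2, 2, 2, 9, 0, 0, 0, 0, 3, 3, 3, 3]
def rw55 : List ℕ := [1, 17, 0, 16]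
def rw56 : List ℕ := [1, 16, 4, 1, 2, 1, 5, 2, 1, 2, 2, 4, 3]
def rw57 : List ℕ := [1, 5, 2, 1, 2, 2, 4, 3, 1, 16, 4, 1, 2]
def rw58 : List ℕ := [1, 1, 1, 1, 1]
def rw59 : List ℕ := [1, 1, 5, 2, 1, 1, 3, 1, 4, 2, 0, 3, 5, 0, 2, 0, 0, 3, 4]
def rw60 : List ℕ := [1, 18, 0, 19]
def rw61 : List ℕ := [1, 5, 5, 2, 1, 3, 5, 0, 2, 0, 0, 3, 1, 4, 2, 0, 3, 4, 4]
def rw62 : List ℕ := [1, 2, 5, 1, 2, 1, 1, 18, 2, 5, 1, 2, 1]
def rw63 : List ℕ := [1, 1, 3, 1, 4, 2, 0, 3, 5, 0, 2, 0, 0, 3, 4, 1, 1, 5, 2]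
def rw64 : List ℕ := [1, 2, 2, 2, 11, 0, 0, 0, 2, 2, 2, 1, 3]
def rw65 : List ℕ := [2, 2, 9, 0, 0, 0, 0, 3, 3, 3, 3, 1, 2]
def rw66 : List ℕ := [2, 0, 3, 3, 3, 1, 1, 1, 10, 3, 3, 3, 0]
def rw67 : List ℕ := [2, 1, 1, 3, 1, 1, 2, 1, 1, 3, 1, 1, 12]
def rw68 : List ℕ := [2, 0, 3, 5, 0, 2, 0, 0, 3, 4, 1, 1, 5, 2, 1, 1, 3, 1, 4]
def rw69 : List ℕ := [2, 2, 2, 2, 2, 2, 2]
def rw70 : List ℕ := [2, 2, 2, 2, 2, 2, 2]
def rw71 : List ℕ := [2, 0, 0, 3, 4, 0, 0, 5, 2, 1, 1, 3, 1, 4, 2, 1, 3, 5, 0]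
def rw72 : List ℕ := [2, 1, 3, 1, 2, 2, 2, 11, 0, 0, 0, 2, 2]
def rw73 : List ℕ := [2, 2, 2, 1, 1, 1, 1, 8, 3, 3, 3, 0, 2]
def rw74 : List ℕ := [2, 2, 2, 9, 0, 0, 0, 0, 3, 3, 3, 3, 1]
def rw75 : List ℕ := [2, 5, 1, 2, 1, 1, 2, 5, 1, 2, 1, 1, 18]
def rw76 : List ℕ := [2, 18, 3, 19]
def rw77 : List ℕ := [2, 2, 7, 0, 2, 1, 3, 0, 3, 3, 0, 2]
def rw78 : List ℕ := [2, 5, 3, 3, 0, 3, 4, 0, 3, 0, 5, 17, 0]
def rw79 : List ℕ := [2, 2, 1, 2, 0, 3, 1, 6, 3, 3, 3, 1]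
def rw80 : List ℕ := [2, 1, 5, 2, 1, 2, 2, 4, 3, 1, 16, 4, 1]
def rw81 : List ℕ := [2, 1, 3, 5, 0, 2, 0, 0, 3, 1, 4, 2, 0, 3, 4, 4, 1, 5, 5]
def rw82 : List ℕ := [2, 0, 3, 4, 4, 0, 5, 5, 2, 1, 3, 5, 0, 2, 1, 1, 3, 1, 4]
def rw83 : List ℕ := [2, 2, 2, 2, 2, 2, 2]
def rw84 : List ℕ := [2, 1, 1, 1, 1, 8, 3, 3, 3, 0, 2, 2, 2]
def rw85 : List ℕ := [2, 4, 2, 4, 2, 4, 2, 4, 15, 2, 4]
def rw86 : List ℕ := [2, 4, 2, 4, 2, 4, 15, 2, 4, 2, 4]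
def rw87 : List ℕ := [2, 1, 2, 0, 3, 1, 6, 3, 3, 3, 1, 2]
def rw88 : List ℕ := [2, 9, 0, 0, 0, 0, 3, 3, 3, 3, 1, 2, 2]
def rw89 : List ℕ := [2, 1, 1, 18, 2, 5, 1, 2, 1, 1, 2, 5, 1]
def rw90 : List ℕ := [2, 1, 1, 2, 5, 1, 2, 1, 1, 18, 2, 5, 1]
def rw91 : List ℕ := [2, 2, 2, 1, 3, 1, 2, 2, 2, 11, 0, 0, 0]
def rw92 : List ℕ := [2, 2, 1, 3, 1, 2, 2, 2, 11, 0, 0, 0, 2]
def rw93 : List ℕ := [2, 1, 3, 0, 3, 3, 0, 2, 2, 2, 7, 0]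
def rw94 : List ℕ := [2, 1, 2, 2, 4, 3, 1, 16, 4, 1, 2, 1, 5]
def rw95 : List ℕ := [2, 7, 0, 2, 1, 3, 0, 3, 3, 0, 2, 2]
def rw96 : List ℕ := [2, 0, 0, 3, 4, 1, 1, 5, 2, 1, 1, 3, 1, 4, 2, 0, 3, 5, 0]
def rw97 : List ℕ := [2, 2, 4, 3, 1, 16, 4, 1, 2, 1, 5, 2, 1]
def rw98 : List ℕ := [2, 1, 1, 3, 1, 1, 12, 2, 1, 1, 3, 1, 1]
def rw99 : List ℕ := [2, 2, 11, 0, 0, 0, 2, 2, 2, 1, 3, 1, 2]
def rw100 : List ℕ := [2, 0, 3, 1, 6, 3, 3, 3, 1, 2, 2, 1]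
def rw101 : List ℕ := [2, 4, 3, 1, 16, 4, 1, 2, 1, 5, 2, 1, 2]
def rw102 : List ℕ := [2, 2, 2, 11, 0, 0, 0, 2, 2, 2, 1, 3, 1]
def rw103 : List ℕ := [2, 1, 1, 3, 1, 4, 2, 1, 3, 5, 0, 2, 0, 0, 3, 4, 0, 0, 5]
def rw104 : List ℕ := [2, 2, 2, 7, 0, 2, 1, 3, 0, 3, 3, 0]
def rw105 : List ℕ := [2, 1, 1, 3, 1, 4, 2, 0, 3, 5, 0, 2, 0, 0, 3, 4, 1, 1, 5]
def rw106 : List ℕ := [3, 3, 3, 3, 3, 3, 3]
def rw107 : List ℕ := [3, 1, 1, 1, 10, 3, 3, 3, 0, 2, 0, 3, 3]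
def rw108 : List ℕ := [3, 1, 6, 3, 3, 3, 1, 2, 2, 1, 2, 0]
def rw109 : List ℕ := [3, 3, 1, 2, 2, 1, 2, 0, 3, 1, 6, 3]
def rw110 : List ℕ := [3, 0, 5, 17, 0, 2, 5, 3, 3, 0, 3, 4, 0]
def rw111 : List ℕ := [3, 1, 1, 2, 1, 1, 3, 1, 1, 12, 2, 1, 1]
def rw112 : List ℕ := [3, 18, 2, 19]
def rw113 : List ℕ := [3, 5, 0, 2, 0, 0, 3, 4, 0, 0, 5, 2, 1, 1, 3, 1, 4, 2, 1]
def rw114 : List ℕ := [3, 5, 3, 5, 3, 14, 5, 3, 5, 3, 5]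
def rw115 : List ℕ := [3, 19, 0, 0, 3, 0, 4, 3, 0, 0, 3, 0, 4]
def rw116 : List ℕ := [3, 1, 1, 12, 2, 1, 1, 3, 1, 1, 2, 1, 1]
def rw117 : List ℕ := [3, 5, 0, 2, 0, 0, 3, 1, 4, 2, 0, 3, 4, 4, 1, 5, 5, 2, 1]
def rw118 : List ℕ := [3, 0, 3, 4, 0, 3, 0, 5, 17, 0, 2, 5, 3]
def rw119 : List ℕ := [3, 1, 4, 2, 1, 3, 5, 0, 2, 0, 0, 3, 4, 0, 0, 5, 2, 1, 1]
def rw120 : List ℕ := [3, 3, 3, 0, 2, 0, 3, 3, 3, 1, 1, 1, 10]
def rw121 : List ℕ := [3, 0, 4, 3, 19, 0, 0, 3, 0, 4, 3, 0, 0]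
def rw122 : List ℕ := [3, 3, 3, 3, 1, 2, 2, 2, 9, 0, 0, 0, 0]
def rw123 : List ℕ := [3, 4, 0, 0, 5, 2, 1, 1, 3, 1, 4, 2, 1, 3, 5, 0, 2, 0, 0]
def rw124 : List ℕ := [3, 3, 3, 1, 2, 2, 2, 9, 0, 0, 0, 0, 3]
def rw125 : List ℕ := [3, 1, 16, 4, 1, 2, 1, 5, 2, 1, 2, 2, 4]
def rw126 : List ℕ := [3, 4, 4, 1, 5, 5, 2, 1, 3, 5, 0, 2, 0, 0, 3, 1, 4, 2, 0]
def rw127 : List ℕ := [3, 0, 2, 2, 2, 2, 1, 1, 1, 1, 8, 3, 3]
def rw128 : List ℕ := [3, 3, 0, 2, 2, 2, 2, 1, 1, 1, 1, 8, 3]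
def rw129 : List ℕ := [3, 0, 2, 0, 3, 3, 3, 1, 1, 1, 10, 3, 3]
def rw130 : List ℕ := [3, 0, 4, 3, 0, 0, 3, 0, 4, 3, 19, 0, 0]
def rw131 : List ℕ := [3, 5, 3, 5, 3, 5, 3, 14, 5, 3, 5]
def rw132 : List ℕ := [3, 3, 0, 3, 4, 0, 3, 0, 5, 17, 0, 2, 5]
def rw133 : List ℕ := [3, 3, 3, 3, 3, 3, 3]
def rw134 : List ℕ := [3, 1, 2, 2, 1, 2, 0, 3, 1, 6, 3, 3]
def rw135 : List ℕ := [3, 4, 1, 1, 5, 2, 1, 1, 3, 1, 4, 2, 0, 3, 5, 0, 2, 0, 0]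
def rw136 : List ℕ := [3, 3, 0, 2, 2, 2, 7, 0, 2, 1, 3, 0]
def rw137 : List ℕ := [3, 3, 1, 2, 2, 2, 9, 0, 0, 0, 0, 3, 3]
def rw138 : List ℕ := [3, 14, 5, 3, 5, 3, 5, 3, 5, 3, 5]
def rw139 : List ℕ := [3, 5, 3, 5, 3, 5, 3, 5, 3, 14, 5]
def rw140 : List ℕ := [4, 0, 5, 1, 4, 4]
def rw141 : List ℕ := [4, 4, 4, 0, 5, 1]
def rw142 : List ℕ := [4, 1, 5, 5, 2, 1, 3, 5, 0, 2, 0, 0, 3, 1, 4, 2, 0, 3, 4]
def rw143 : List ℕ := [4, 4, 0, 5, 1, 4]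
def rw144 : List ℕ := [4, 19, 5, 18]
def rw145 : List ℕ := [4, 1, 2, 1, 5, 2, 1, 2, 2, 4, 3, 1, 16]
def rw146 : List ℕ := [4, 3, 1, 16, 4, 1, 2, 1, 5, 2, 1, 2, 2]
def rw147 : List ℕ := [4, 1, 5, 5, 5, 0]
def rw148 : List ℕ := [4, 4, 1, 5, 5, 2, 1, 3, 5, 0, 2, 0, 0, 3, 1, 4, 2, 0, 3]
def rw149 : List ℕ := [4, 3, 19, 0, 0, 3, 0, 4, 3, 0, 0, 3, 0]
def rw150 : List ℕ := [4, 14, 5, 15]
def rw151 : List ℕ := [4, 2, 4, 15, 2, 4, 2, 4, 2, 4, 2]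
def rw152 : List ℕ := [4, 1, 1, 5, 2, 1, 1, 3, 1, 4, 2, 0, 3, 5, 0, 2, 0, 0, 3]
def rw153 : List ℕ := [4, 2, 0, 3, 4, 4, 0, 5, 5, 2, 1, 3, 5, 0, 2, 1, 1, 3, 1]
def rw154 : List ℕ := [4, 4, 4, 4, 4, 4, 4, 4, 4, 4, 4]
def rw155 : List ℕ := [4, 2, 4, 2, 4, 15, 2, 4, 2, 4, 2]
def rw156 : List ℕ := [4, 17, 5, 16]
def rw157 : List ℕ := [4, 4, 4, 4, 4, 4, 4, 4, 4, 4, 4]
def rw158 : List ℕ := [4, 3, 0, 0, 3, 0, 4, 3, 19, 0, 0, 3, 0]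
def rw159 : List ℕ := [4, 2, 4, 2, 4, 2, 4, 15, 2, 4, 2]
def rw160 : List ℕ := [4, 18, 5, 19]
def rw161 : List ℕ := [4, 0, 0, 5, 2, 1, 1, 3, 1, 4, 2, 1, 3, 5, 0, 2, 0, 0, 3]
def rw162 : List ℕ := [4, 2, 4, 2, 4, 2, 4, 2, 4, 15, 2]
def rw163 : List ℕ := [4, 0, 3, 0, 5, 17, 0, 2, 5, 3, 3, 0, 3]
def rw164 : List ℕ := [5, 0, 4, 1, 5, 5]
def rw165 : List ℕ := [5, 1, 4, 4, 4, 0]
def rw166 : List ℕ := [5, 5, 5, 5, 5, 5, 5, 5, 5, 5, 5]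
def rw167 : List ℕ := [5, 5, 5, 0, 4, 1]
def rw168 : List ℕ := [5, 2, 1, 2, 2, 4, 3, 1, 16, 4, 1, 2, 1]
def rw169 : List ℕ := [5, 5, 0, 4, 1, 5]
def rw170 : List ℕ := [5, 5, 2, 1, 3, 5, 0, 2, 0, 0, 3, 1, 4, 2, 0, 3, 4, 4, 1]
def rw171 : List ℕ := [5, 3, 3, 0, 3, 4, 0, 3, 0, 5, 17, 0, 2]
def rw172 : List ℕ := [5, 1, 2, 1, 1, 2, 5, 1, 2, 1, 1, 18, 2]
def rw173 : List ℕ := [5, 0, 2, 0, 0, 3, 4, 1, 1, 5, 2, 1, 1, 3, 1, 4, 2, 0, 3]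
def rw174 : List ℕ := [5, 5, 2, 1, 3, 5, 0, 2, 1, 1, 3, 1, 4, 2, 0, 3, 4, 4, 0]
def rw175 : List ℕ := [5, 0, 2, 0, 0, 3, 1, 4, 2, 0, 3, 4, 4, 1, 5, 5, 2, 1, 3]
def rw176 : List ℕ := [5, 17, 0, 2, 5, 3, 3, 0, 3, 4, 0, 3, 0]
def rw177 : List ℕ := [5, 5, 5, 5, 5, 5, 5, 5, 5, 5, 5]
def rw178 : List ℕ := [5, 2, 1, 3, 5, 0, 2, 0, 0, 3, 1, 4, 2, 0, 3, 4, 4, 1, 5]
def rw179 : List ℕ := [5, 14, 4, 15]
def rw180 : List ℕ := [5, 1, 2, 1, 1, 18, 2, 5, 1, 2, 1, 1, 2]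
def rw181 : List ℕ := [5, 2, 1, 3, 5, 0, 2, 1, 1, 3, 1, 4, 2, 0, 3, 4, 4, 0, 5]
def rw182 : List ℕ := [5, 2, 1, 1, 3, 1, 4, 2, 0, 3, 5, 0, 2, 0, 0, 3, 4, 1, 1]
def rw183 : List ℕ := [5, 17, 4, 16]
def rw184 : List ℕ := [5, 5, 5, 5, 5, 5, 5, 5, 5, 5, 5]
def rw185 : List ℕ := [5, 18, 4, 19]
def rw186 : List ℕ := [5, 16, 4, 17]
def rw187 : List ℕ := [5, 0, 2, 1, 1, 3, 1, 4, 2, 0, 3, 4, 4, 0, 5, 5, 2, 1, 3]
def rw188 : List ℕ := [5, 3, 5, 3, 5, 3, 5, 3, 5, 3, 14]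
def rw189 : List ℕ := [5, 5, 5, 5, 5, 5, 5, 5, 5, 5, 5]
def rw190 : List ℕ := [5, 3, 5, 3, 5, 3, 5, 3, 14, 5, 3]
def rw191 : List ℕ := [6, 4, 7, 5]
def rw192 : List ℕ := [6, 0, 7, 1]
def rw193 : List ℕ := [6, 2, 7, 3]
def rw194 : List ℕ := [7, 0, 2, 1, 3, 0, 3, 3, 0, 2, 2, 2]
def rw195 : List ℕ := [7, 5, 6, 4]
def rw196 : List ℕ := [7, 1, 6, 0]
def rw197 : List ℕ := [7, 3, 6, 2]
def rw198 : List ℕ := [8, 4, 9, 5]
def rw199 : List ℕ := [8, 0, 9, 1]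
def rw200 : List ℕ := [8, 2, 9, 3]
def rw201 : List ℕ := [9, 0, 0, 0, 0, 3, 3, 3, 3, 1, 2, 2, 2]
def rw202 : List ℕ := [9, 5, 8, 4]
def rw203 : List ℕ := [9, 1, 8, 0]
def rw204 : List ℕ := [9, 3, 8, 2]
def rw205 : List ℕ := [10, 4, 11, 5]
def rw206 : List ℕ := [10, 0, 11, 1]
def rw207 : List ℕ := [10, 2, 11, 3]
def rw208 : List ℕ := [11, 0, 0, 0, 2, 2, 2, 1, 3, 1, 2, 2, 2]
def rw209 : List ℕ := [11, 5, 10, 4]
def rw210 : List ℕ := [11, 1, 10, 0]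
def rw211 : List ℕ := [11, 3, 10, 2]
def rw212 : List ℕ := [12, 4, 13, 5]
def rw213 : List ℕ := [12, 0, 13, 1]
def rw214 : List ℕ := [12, 2, 13, 3]
def rw215 : List ℕ := [13, 0, 0, 2, 0, 0, 3, 0, 0, 2, 0, 0, 3]
def rw216 : List ℕ := [13, 5, 12, 4]
def rw217 : List ℕ := [13, 1, 12, 0]
def rw218 : List ℕ := [13, 3, 12, 2]
def rw219 : List ℕ := [14, 5, 15, 4]
def rw220 : List ℕ := [14, 0, 15, 1]
def rw221 : List ℕ := [14, 5, 3, 5, 3, 5, 3, 5, 3, 5, 3]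
def rw222 : List ℕ := [14, 1, 15, 0]
def rw223 : List ℕ := [14, 4, 15, 5]
def rw224 : List ℕ := [14, 3, 15, 2]
def rw225 : List ℕ := [14, 2, 15, 3]
def rw226 : List ℕ := [15, 5, 14, 4]
def rw227 : List ℕ := [15, 3, 14, 2]
def rw228 : List ℕ := [15, 0, 14, 1]
def rw229 : List ℕ := [15, 2, 4, 2, 4, 2, 4, 2, 4, 2, 4]
def rw230 : List ℕ := [15, 4, 14, 5]
def rw231 : List ℕ := [15, 2, 14, 3]
def rw232 : List ℕ := [15, 1, 14, 0]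
def rw233 : List ℕ := [16, 4, 17, 5]
def rw234 : List ℕ := [16, 5, 17, 4]
def rw235 : List ℕ := [16, 1, 17, 0]
def rw236 : List ℕ := [16, 3, 17, 2]
def rw237 : List ℕ := [16, 2, 17, 3]
def rw238 : List ℕ := [16, 0, 17, 1]
def rw239 : List ℕ := [16, 4, 1, 2, 1, 5, 2, 1, 2, 2, 4, 3, 1]
def rw240 : List ℕ := [17, 0, 16, 1]
def rw241 : List ℕ := [17, 3, 16, 2]
def rw242 : List ℕ := [17, 4, 16, 5]
def rw243 : List ℕ := [17, 2, 16, 3]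
def rw244 : List ℕ := [17, 1, 16, 0]
def rw245 : List ℕ := [17, 5, 16, 4]
def rw246 : List ℕ := [17, 0, 2, 5, 3, 3, 0, 3, 4, 0, 3, 0, 5]
def rw247 : List ℕ := [17, 14, 16, 15]
def rw248 : List ℕ := [18, 1, 19, 0]
def rw249 : List ℕ := [18, 0, 19, 1]
def rw250 : List ℕ := [18, 4, 19, 5]
def rw251 : List ℕ := [18, 17, 19, 16]
def rw252 : List ℕ := [18, 5, 19, 4]
def rw253 : List ℕ := [18, 3, 19, 2]
def rw254 : List ℕ := [18, 2, 19, 3]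
def rw255 : List ℕ := [18, 16, 19, 17]
def rw256 : List ℕ := [18, 15, 19, 14]
def rw257 : List ℕ := [18, 2, 5, 1, 2, 1, 1, 2, 5, 1, 2, 1, 1]
def rw258 : List ℕ := [19, 3, 18, 2]
def rw259 : List ℕ := [19, 5, 18, 4]
def rw260 : List ℕ := [19, 0, 18, 1]
def rw261 : List ℕ := [19, 17, 18, 16]
def rw262 : List ℕ := [19, 1, 18, 0]
def rw263 : List ℕ := [19, 4, 18, 5]
def rw264 : List ℕ := [19, 2, 18, 3]
def rw265 : List ℕ := [19, 0, 0, 3, 0, 4, 3, 0, 0, 3, 0, 4, 3]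
def rw266 : List ℕ := [19, 16, 18, 17]
def rw267 : List ℕ := [0, 3, 13, 0, 0, 2, 0, 0, 3, 0, 0, 2, 0]
def rw268 : List ℕ := [0, 5, 17, 0, 2, 5, 3, 3, 0, 3, 4, 0, 3]
def rw269 : List ℕ := [3, 1, 2, 2, 2, 9, 0, 0, 0, 0, 3, 3, 3]
def rw270 : List ℕ := [1, 12, 2, 1, 1, 3, 1, 1, 2, 1, 1, 3, 1]
def rw271 : List ℕ := [0, 2, 0, 0, 3, 4, 0, 0, 5, 2, 1, 1, 3, 1, 4, 2, 1, 3, 5]
def rw272 : List ℕ := [1, 2, 1, 1, 3, 1, 1, 12, 2, 1, 1, 3, 1]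
def rw273 : List ℕ := [1, 19, 0, 18]
def rw274 : List ℕ := [3, 0, 2, 2, 2, 7, 0, 2, 1, 3, 0, 3]
def rw275 : List ℕ := [1, 18, 2, 5, 1, 2, 1, 1, 2, 5, 1, 2, 1]
def rw276 : List ℕ := [0, 0, 0, 0, 0]
def rw277 : List ℕ := [4, 2, 0, 3, 4, 4, 1, 5, 5, 2, 1, 3, 5, 0, 2, 0, 0, 3, 1]
def rw278 : List ℕ := [4, 4, 4, 4, 4, 4, 4, 4, 4, 4, 4]
def rw279 : List ℕ := [4, 2, 0, 3, 5, 0, 2, 0, 0, 3, 4, 1, 1, 5, 2, 1, 1, 3, 1]
def rw280 : List ℕ := [0, 0, 2, 2, 2, 1, 3, 1, 2, 2, 2, 11, 0]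
def rw281 : List ℕ := [0, 0, 0, 2, 2, 2, 1, 3, 1, 2, 2, 2, 11]
def rw282 : List ℕ := [2, 5, 1, 2, 1, 1, 18, 2, 5, 1, 2, 1, 1]
def rw283 : List ℕ := [1, 1, 3, 1, 1, 2, 1, 1, 3, 1, 1, 12, 2]
def rw284 : List ℕ := [3, 0, 0, 3, 0, 4, 3, 19, 0, 0, 3, 0, 4]
def rw285 : List ℕ := [0, 5, 5, 2, 1, 3, 5, 0, 2, 1, 1, 3, 1, 4, 2, 0, 3, 4, 4]
def rw286 : List ℕ := [5, 3, 5, 3, 14, 5, 3, 5, 3, 5, 3]
def rw287 : List ℕ := [1, 1, 3, 1, 4, 2, 1, 3, 5, 0, 2, 0, 0, 3, 4, 0, 0, 5, 2]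
def rw288 : List ℕ := [1, 3, 5, 0, 2, 0, 0, 3, 4, 0, 0, 5, 2, 1, 1, 3, 1, 4, 2]
def rw289 : List ℕ := [1, 2, 1, 1, 2, 5, 1, 2, 1, 1, 18, 2, 5]
def rw290 : List ℕ := [1, 2, 0, 3, 1, 6, 3, 3, 3, 1, 2, 2]
def rw291 : List ℕ := [1, 1, 12, 2, 1, 1, 3, 1, 1, 2, 1, 1, 3]
def rw292 : List ℕ := [0, 0, 3, 0, 4, 3, 19, 0, 0, 3, 0, 4, 3]
def rw293 : List ℕ := [3, 1, 2, 2, 2, 11, 0, 0, 0, 2, 2, 2, 1]
def rw294 : List ℕ := [4, 4, 0, 5, 5, 2, 1, 3, 5, 0, 2, 1, 1, 3, 1, 4, 2, 0, 3]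
def rw295 : List ℕ := [4, 4, 4, 4, 4, 4, 4, 4, 4, 4, 4]
def rw296 : List ℕ := [3, 4, 4, 0, 5, 5, 2, 1, 3, 5, 0, 2, 1, 1, 3, 1, 4, 2, 0]
def rw297 : List ℕ := [5, 3, 5, 3, 5, 3, 14, 5, 3, 5, 3]
def rw298 : List ℕ := [2, 0, 3, 4, 4, 1, 5, 5, 2, 1, 3, 5, 0, 2, 0, 0, 3, 1, 4]
def rw299 : List ℕ := [1, 2, 1, 1, 18, 2, 5, 1, 2, 1, 1, 2, 5]
def rw300 : List ℕ := [1, 1, 1, 1, 8, 3, 3, 3, 0, 2, 2, 2, 2]
def rw301 : List ℕ := [3, 3, 3, 1, 1, 1, 10, 3, 3, 3, 0, 2, 0]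
def rw302 : List ℕ := [1, 3, 5, 0, 2, 1, 1, 3, 1, 4, 2, 0, 3, 4, 4, 0, 5, 5, 2]
def rw303 : List ℕ := [3, 1, 4, 2, 0, 3, 5, 0, 2, 0, 0, 3, 4, 1, 1, 5, 2, 1, 1]
def rw304 : List ℕ := [0, 2, 0, 0, 3, 13, 0, 0, 2, 0, 0, 3, 0]
def rw305 : List ℕ := [0, 0, 3, 3, 3, 3, 1, 2, 2, 2, 9, 0, 0]
def rw306 : List ℕ := [5, 0, 2, 0, 0, 3, 4, 0, 0, 5, 2, 1, 1, 3, 1, 4, 2, 1, 3]
def rw307 : List ℕ := [4, 4, 4, 4, 4, 4, 4, 4, 4, 4, 4]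
def rw308 : List ℕ := [1, 3, 1, 4, 2, 0, 3, 4, 4, 0, 5, 5, 2, 1, 3, 5, 0, 2, 1]
def rw309 : List ℕ := [0, 3, 0, 0, 2, 0, 0, 3, 13, 0, 0, 2, 0]
def rw310 : List ℕ := [4, 2, 1, 3, 5, 0, 2, 0, 0, 3, 4, 0, 0, 5, 2, 1, 1, 3, 1]
noncomputable def relW (i : ℕ) : List ℕ := (Bool.rec (motive := fun _ => List ℕ) (Bool.rec (motive := fun _ => List ℕ) (Bool.rec (motive := fun _ => List ℕ) (Bool.rec (motive := fun _ => List ℕ) (Bool.rec (motive := fun _ => List ℕ) (Bool.rec (motive := fun _ => List ℕ) (Bool.rec (motive := fun _ => List ℕ) (Bool.rec (motive := fun _ => List ℕ) (Bool.rec (motive := fun _ => List ℕ) (rw0) (rw1) (Nat.ble 1 i)) (Bool.rec (motive := fun _ => List ℕ) (rw2) (rw3) (Nat.ble 3 i)) (Nat.ble 2 i)) (Bool.rec (motive := fun _ => List ℕ) (Bool.rec (motive := fun _ => List ℕ) (rw4) (rw5) (Nat.ble 5 i)) (Bool.rec (motive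 := fun _ => List ℕ) (rw6) (rw7) (Nat.ble 7 i)) (Nat.ble 6 i)) (Nat.ble 4 i)) (Bool.rec (motive := fun _ => List ℕ) (Bool.rec (motive := fun _ => List ℕ) (Bool.rec (motive := fun _ => List ℕ) (rw8) (rw9) (Nat.ble 9 i)) (Bool.rec (motive := fun _ => List ℕ) (rw10) (rw11) (Nat.ble 11 i)) (Nat.ble 10 i)) (Bool.rec (motive := fun _ => List ℕ) (Bool.rec (motive := fun _ => List ℕ) (rw12) (rw13) (Nat.ble 13 i)) (Bool.rec (motive := fun _ => List ℕ) (rw14) (rw15) (Nat.ble 15 i)) (Nat.ble 14 i)) (Nat.ble 12 i)) (Nat.ble 8 i)) (Bool.rec (motive := fun _ => List ℕ) (Bool.rec (motive := fun _ => List ℕ) (Bool.rec (motive := fun _ => List ℕ) (Bool.rec (motive := fun _ => List ℕ) (rw16) (rw17) (Nat.ble 17 i)) (Bool.rec (motive := fun _ => List ℕ) (rw18) (rw19) (Nat.ble 19 i)) (Nat.ble 18 i)) (Bool.rec (motive := fun _ => List ℕ) (Bool.rec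 (motive := fun _ => List ℕ) (rw20) (rw21) (Nat.ble 21 i)) (Bool.rec (motive := fun _ => List ℕ) (rw22) (rw23) (Nat.ble 23 i)) (Nat.ble 22 i)) (Nat.ble 20 i)) (Bool.rec (motive := fun _ => List ℕ) (Bool.rec (motive := fun _ => List ℕ) (Bool.rec (motive := fun _ => List ℕ) (rw24) (rw25) (Nat.ble 25 i)) (Bool.rec (motive := fun _ => List ℕ) (rw26) (rw27) (Nat.ble 27 i)) (Nat.ble 26 i)) (Bool.rec (motive := fun _ => List ℕ) (Bool.rec (motive := fun _ => List ℕ) (rw28) (rw29) (Nat.ble 29 i)) (Bool.rec (motive := fun _ => List ℕ) (rw30) (rw31) (Nat.ble 31 i)) (Nat.ble 30 i)) (Nat.ble 28 i)) (Nat.ble 24 i)) (Nat.ble 16 i)) (Bool.rec (motive := fun _ => List ℕ) (Bool.rec (motive := fun _ => List ℕ) (Bool.rec (motive := fun _ => List ℕ) (Bool.rec (motive := fun _ => List ℕ) (Bool.rec (motive := fun _ => List ℕ) (rw32) (rw33) (Nat.ble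 33 i)) (Bool.rec (motive := fun _ => List ℕ) (rw34) (rw35) (Nat.ble 35 i)) (Nat.ble 34 i)) (Bool.rec (motive := fun _ => List ℕ) (Bool.rec (motive := fun _ => List ℕ) (rw36) (rw37) (Nat.ble 37 i)) (Bool.rec (motive := fun _ => List ℕ) (rw38) (rw39) (Nat.ble 39 i)) (Nat.ble 38 i)) (Nat.ble 36 i)) (Bool.rec (motive := fun _ => List ℕ) (Bool.rec (motive := fun _ => List ℕ) (Bool.rec (motive := fun _ => List ℕ) (rw40) (rw41) (Nat.ble 41 i)) (Bool.rec (motive := fun _ => List ℕ) (rw42) (rw43) (Nat.ble 43 i)) (Nat.ble 42 i)) (Bool.rec (motive := fun _ => List ℕ) (Bool.rec (motive := fun _ => List ℕ) (rw44) (rw45) (Nat.ble 45 i)) (Bool.rec (motive := fun _ => List ℕ) (rw46) (rw47) (Nat.ble 47 i)) (Nat.ble 46 i)) (Nat.ble 44 i)) (Nat.ble 40 i)) (Bool.rec (motive := fun _ => List ℕ) (Bool.rec (motive := fun _ => List ℕ) (Bool.rec (motive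 := fun _ => List ℕ) (Bool.rec (motive := fun _ => List ℕ) (rw48) (rw49) (Nat.ble 49 i)) (Bool.rec (motive := fun _ => List ℕ) (rw50) (rw51) (Nat.ble 51 i)) (Nat.ble 50 i)) (Bool.rec (motive := fun _ => List ℕ) (Bool.rec (motive := fun _ => List ℕ) (rw52) (rw53) (Nat.ble 53 i)) (Bool.rec (motive := fun _ => List ℕ) (rw54) (rw55) (Nat.ble 55 i)) (Nat.ble 54 i)) (Nat.ble 52 i)) (Bool.rec (motive := fun _ => List ℕ) (Bool.rec (motive := fun _ => List ℕ) (Bool.rec (motive := fun _ => List ℕ) (rw56) (rw57) (Nat.ble 57 i)) (Bool.rec (motive := fun _ => List ℕ) (rw58) (rw59) (Nat.ble 59 i)) (Nat.ble 58 i)) (Bool.rec (motive := fun _ => List ℕ) (Bool.rec (motive := fun _ => List ℕ) (rw60) (rw61) (Nat.ble 61 i)) (Bool.rec (motive := fun _ => List ℕ) (rw62) (rw63) (Nat.ble 63 i)) (Nat.ble 62 i)) (Nat.ble 60 i)) (Nat.ble 56 i)) (Nat.ble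 48 i)) (Nat.ble 32 i)) (Bool.rec (motive := fun _ => List ℕ) (Bool.rec (motive := fun _ => List ℕ) (Bool.rec (motive := fun _ => List ℕ) (Bool.rec (motive := fun _ => List ℕ) (Bool.rec (motive := fun _ => List ℕ) (Bool.rec (motive := fun _ => List ℕ) (rw64) (rw65) (Nat.ble 65 i)) (Bool.rec (motive := fun _ => List ℕ) (rw66) (rw67) (Nat.ble 67 i)) (Nat.ble 66 i)) (Bool.rec (motive := fun _ => List ℕ) (Bool.rec (motive := fun _ => List ℕ) (rw68) (rw69) (Nat.ble 69 i)) (Bool.rec (motive := fun _ => List ℕ) (rw70) (rw71) (Nat.ble 71 i)) (Nat.ble 70 i)) (Nat.ble 68 i)) (Bool.rec (motive := fun _ => List ℕ) (Bool.rec (motive := fun _ => List ℕ) (Bool.rec (motive := fun _ => List ℕ) (rw72) (rw73) (Nat.ble 73 i)) (Bool.rec (motive := fun _ => List ℕ) (rw74) (rw75) (Nat.ble 75 i)) (Nat.ble 74 i)) (Bool.rec (motive := fun _ => List ℕ)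 (Bool.rec (motive := fun _ => List ℕ) (rw76) (rw77) (Nat.ble 77 i)) (Bool.rec (motive := fun _ => List ℕ) (rw78) (rw79) (Nat.ble 79 i)) (Nat.ble 78 i)) (Nat.ble 76 i)) (Nat.ble 72 i)) (Bool.rec (motive := fun _ => List ℕ) (Bool.rec (motive := fun _ => List ℕ) (Bool.rec (motive := fun _ => List ℕ) (Bool.rec (motive := fun _ => List ℕ) (rw80) (rw81) (Nat.ble 81 i)) (Bool.rec (motive := fun _ => List ℕ) (rw82) (rw83) (Nat.ble 83 i)) (Nat.ble 82 i)) (Bool.rec (motive := fun _ => List ℕ) (Bool.rec (motive := fun _ => List ℕ) (rw84) (rw85) (Nat.ble 85 i)) (Bool.rec (motive := fun _ => List ℕ) (rw86) (rw87) (Nat.ble 87 i)) (Nat.ble 86 i)) (Nat.ble 84 i)) (Bool.rec (motive := fun _ => List ℕ) (Bool.rec (motive := fun _ => List ℕ) (Bool.rec (motive := fun _ => List ℕ) (rw88) (rw89) (Nat.ble 89 i)) (Bool.rec (motive := fun _ => List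 ℕ) (rw90) (rw91) (Nat.ble 91 i)) (Nat.ble 90 i)) (Bool.rec (motive := fun _ => List ℕ) (Bool.rec (motive := fun _ => List ℕ) (rw92) (rw93) (Nat.ble 93 i)) (Bool.rec (motive := fun _ => List ℕ) (rw94) (rw95) (Nat.ble 95 i)) (Nat.ble 94 i)) (Nat.ble 92 i)) (Nat.ble 88 i)) (Nat.ble 80 i)) (Bool.rec (motive := fun _ => List ℕ) (Bool.rec (motive := fun _ => List ℕ) (Bool.rec (motive := fun _ => List ℕ) (Bool.rec (motive := fun _ => List ℕ) (Bool.rec (motive := fun _ => List ℕ) (rw96) (rw97) (Nat.ble 97 i)) (Bool.rec (motive := fun _ => List ℕ) (rw98) (rw99) (Nat.ble 99 i)) (Nat.ble 98 i)) (Bool.rec (motive := fun _ => List ℕ) (Bool.rec (motive := fun _ => List ℕ) (rw100) (rw101) (Nat.ble 101 i)) (Bool.rec (motive := fun _ => List ℕ) (rw102) (rw103) (Nat.ble 103 i)) (Nat.ble 102 i)) (Nat.ble 100 i)) (Bool.rec (motive := fun _ =>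 List ℕ) (Bool.rec (motive := fun _ => List ℕ) (Bool.rec (motive := fun _ => List ℕ) (rw104) (rw105) (Nat.ble 105 i)) (Bool.rec (motive := fun _ => List ℕ) (rw106) (rw107) (Nat.ble 107 i)) (Nat.ble 106 i)) (Bool.rec (motive := fun _ => List ℕ) (Bool.rec (motive := fun _ => List ℕ) (rw108) (rw109) (Nat.ble 109 i)) (Bool.rec (motive := fun _ => List ℕ) (rw110) (rw111) (Nat.ble 111 i)) (Nat.ble 110 i)) (Nat.ble 108 i)) (Nat.ble 104 i)) (Bool.rec (motive := fun _ => List ℕ) (Bool.rec (motive := fun _ => List ℕ) (Bool.rec (motive := fun _ => List ℕ) (Bool.rec (motive := fun _ => List ℕ) (rw112) (rw113) (Nat.ble 113 i)) (Bool.rec (motive := fun _ => List ℕ) (rw114) (rw115) (Nat.ble 115 i)) (Nat.ble 114 i)) (Bool.rec (motive := fun _ => List ℕ) (Bool.rec (motive := fun _ => List ℕ) (rw116) (rw117) (Nat.ble 117 i)) (Bool.rec (motive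 := fun _ => List ℕ) (rw118) (rw119) (Nat.ble 119 i)) (Nat.ble 118 i)) (Nat.ble 116 i)) (Bool.rec (motive := fun _ => List ℕ) (Bool.rec (motive := fun _ => List ℕ) (Bool.rec (motive := fun _ => List ℕ) (rw120) (rw121) (Nat.ble 121 i)) (Bool.rec (motive := fun _ => List ℕ) (rw122) (rw123) (Nat.ble 123 i)) (Nat.ble 122 i)) (Bool.rec (motive := fun _ => List ℕ) (Bool.rec (motive := fun _ => List ℕ) (rw124) (rw125) (Nat.ble 125 i)) (Bool.rec (motive := fun _ => List ℕ) (rw126) (rw127) (Nat.ble 127 i)) (Nat.ble 126 i)) (Nat.ble 124 i)) (Nat.ble 120 i)) (Nat.ble 112 i)) (Nat.ble 96 i)) (Nat.ble 64 i)) (Bool.rec (motive := fun _ => List ℕ) (Bool.rec (motive := fun _ => List ℕ) (Bool.rec (motive := fun _ => List ℕ) (Bool.rec (motive := fun _ => List ℕ) (Bool.rec (motive := fun _ => List ℕ) (Bool.rec (motive := fun _ => List ℕ) (Bool.rec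 (motive := fun _ => List ℕ) (rw128) (rw129) (Nat.ble 129 i)) (Bool.rec (motive := fun _ => List ℕ) (rw130) (rw131) (Nat.ble 131 i)) (Nat.ble 130 i)) (Bool.rec (motive := fun _ => List ℕ) (Bool.rec (motive := fun _ => List ℕ) (rw132) (rw133) (Nat.ble 133 i)) (Bool.rec (motive := fun _ => List ℕ) (rw134) (rw135) (Nat.ble 135 i)) (Nat.ble 134 i)) (Nat.ble 132 i)) (Bool.rec (motive := fun _ => List ℕ) (Bool.rec (motive := fun _ => List ℕ) (Bool.rec (motive := fun _ => List ℕ) (rw136) (rw137) (Nat.ble 137 i)) (Bool.rec (motive := fun _ => List ℕ) (rw138) (rw139) (Nat.ble 139 i)) (Nat.ble 138 i)) (Bool.rec (motive := fun _ => List ℕ) (Bool.rec (motive := fun _ => List ℕ) (rw140) (rw141) (Nat.ble 141 i)) (Bool.rec (motive := fun _ => List ℕ) (rw142) (rw143) (Nat.ble 143 i)) (Nat.ble 142 i)) (Nat.ble 140 i)) (Nat.ble 136 i)) (Bool.rec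 (motive := fun _ => List ℕ) (Bool.rec (motive := fun _ => List ℕ) (Bool.rec (motive := fun _ => List ℕ) (Bool.rec (motive := fun _ => List ℕ) (rw144) (rw145) (Nat.ble 145 i)) (Bool.rec (motive := fun _ => List ℕ) (rw146) (rw147) (Nat.ble 147 i)) (Nat.ble 146 i)) (Bool.rec (motive := fun _ => List ℕ) (Bool.rec (motive := fun _ => List ℕ) (rw148) (rw149) (Nat.ble 149 i)) (Bool.rec (motive := fun _ => List ℕ) (rw150) (rw151) (Nat.ble 151 i)) (Nat.ble 150 i)) (Nat.ble 148 i)) (Bool.rec (motive := fun _ => List ℕ) (Bool.rec (motive := fun _ => List ℕ) (Bool.rec (motive := fun _ => List ℕ) (rw152) (rw153) (Nat.ble 153 i)) (Bool.rec (motive := fun _ => List ℕ) (rw154) (rw155) (Nat.ble 155 i)) (Nat.ble 154 i)) (Bool.rec (motive := fun _ => List ℕ) (Bool.rec (motive := fun _ => List ℕ) (rw156) (rw157) (Nat.ble 157 i)) (Bool.rec (motive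 := fun _ => List ℕ) (rw158) (rw159) (Nat.ble 159 i)) (Nat.ble 158 i)) (Nat.ble 156 i)) (Nat.ble 152 i)) (Nat.ble 144 i)) (Bool.rec (motive := fun _ => List ℕ) (Bool.rec (motive := fun _ => List ℕ) (Bool.rec (motive := fun _ => List ℕ) (Bool.rec (motive := fun _ => List ℕ) (Bool.rec (motive := fun _ => List ℕ) (rw160) (rw161) (Nat.ble 161 i)) (Bool.rec (motive := fun _ => List ℕ) (rw162) (rw163) (Nat.ble 163 i)) (Nat.ble 162 i)) (Bool.rec (motive := fun _ => List ℕ) (Bool.rec (motive := fun _ => List ℕ) (rw164) (rw165) (Nat.ble 165 i)) (Bool.rec (motive := fun _ => List ℕ) (rw166) (rw167) (Nat.ble 167 i)) (Nat.ble 166 i)) (Nat.ble 164 i)) (Bool.rec (motive := fun _ => List ℕ) (Bool.rec (motive := fun _ => List ℕ) (Bool.rec (motive := fun _ => List ℕ) (rw168) (rw169) (Nat.ble 169 i)) (Bool.rec (motive := fun _ => List ℕ) (rw170)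 (rw171) (Nat.ble 171 i)) (Nat.ble 170 i)) (Bool.rec (motive := fun _ => List ℕ) (Bool.rec (motive := fun _ => List ℕ) (rw172) (rw173) (Nat.ble 173 i)) (Bool.rec (motive := fun _ => List ℕ) (rw174) (rw175) (Nat.ble 175 i)) (Nat.ble 174 i)) (Nat.ble 172 i)) (Nat.ble 168 i)) (Bool.rec (motive := fun _ => List ℕ) (Bool.rec (motive := fun _ => List ℕ) (Bool.rec (motive := fun _ => List ℕ) (Bool.rec (motive := fun _ => List ℕ) (rw176) (rw177) (Nat.ble 177 i)) (Bool.rec (motive := fun _ => List ℕ) (rw178) (rw179) (Nat.ble 179 i)) (Nat.ble 178 i)) (Bool.rec (motive := fun _ => List ℕ) (Bool.rec (motive := fun _ => List ℕ) (rw180) (rw181) (Nat.ble 181 i)) (Bool.rec (motive := fun _ => List ℕ) (rw182) (rw183) (Nat.ble 183 i)) (Nat.ble 182 i)) (Nat.ble 180 i)) (Bool.rec (motive := fun _ => List ℕ) (Bool.rec (motive := fun _ => List ℕ)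 (Bool.rec (motive := fun _ => List ℕ) (rw184) (rw185) (Nat.ble 185 i)) (Bool.rec (motive := fun _ => List ℕ) (rw186) (rw187) (Nat.ble 187 i)) (Nat.ble 186 i)) (Bool.rec (motive := fun _ => List ℕ) (Bool.rec (motive := fun _ => List ℕ) (rw188) (rw189) (Nat.ble 189 i)) (Bool.rec (motive := fun _ => List ℕ) (rw190) (rw191) (Nat.ble 191 i)) (Nat.ble 190 i)) (Nat.ble 188 i)) (Nat.ble 184 i)) (Nat.ble 176 i)) (Nat.ble 160 i)) (Bool.rec (motive := fun _ => List ℕ) (Bool.rec (motive := fun _ => List ℕ) (Bool.rec (motive := fun _ => List ℕ) (Bool.rec (motive := fun _ => List ℕ) (Bool.rec (motive := fun _ => List ℕ) (Bool.rec (motive := fun _ => List ℕ) (rw192) (rw193) (Nat.ble 193 i)) (Bool.rec (motive := fun _ => List ℕ) (rw194) (rw195) (Nat.ble 195 i)) (Nat.ble 194 i)) (Bool.rec (motive := fun _ => List ℕ) (Bool.rec (motive := fun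 _ => List ℕ) (rw196) (rw197) (Nat.ble 197 i)) (Bool.rec (motive := fun _ => List ℕ) (rw198) (rw199) (Nat.ble 199 i)) (Nat.ble 198 i)) (Nat.ble 196 i)) (Bool.rec (motive := fun _ => List ℕ) (Bool.rec (motive := fun _ => List ℕ) (Bool.rec (motive := fun _ => List ℕ) (rw200) (rw201) (Nat.ble 201 i)) (Bool.rec (motive := fun _ => List ℕ) (rw202) (rw203) (Nat.ble 203 i)) (Nat.ble 202 i)) (Bool.rec (motive := fun _ => List ℕ) (Bool.rec (motive := fun _ => List ℕ) (rw204) (rw205) (Nat.ble 205 i)) (Bool.rec (motive := fun _ => List ℕ) (rw206) (rw207) (Nat.ble 207 i)) (Nat.ble 206 i)) (Nat.ble 204 i)) (Nat.ble 200 i)) (Bool.rec (motive := fun _ => List ℕ) (Bool.rec (motive := fun _ => List ℕ) (Bool.rec (motive := fun _ => List ℕ) (Bool.rec (motive := fun _ => List ℕ) (rw208) (rw209) (Nat.ble 209 i)) (Bool.rec (motive := fun _ => List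 ℕ) (rw210) (rw211) (Nat.ble 211 i)) (Nat.ble 210 i)) (Bool.rec (motive := fun _ => List ℕ) (Bool.rec (motive := fun _ => List ℕ) (rw212) (rw213) (Nat.ble 213 i)) (Bool.rec (motive := fun _ => List ℕ) (rw214) (rw215) (Nat.ble 215 i)) (Nat.ble 214 i)) (Nat.ble 212 i)) (Bool.rec (motive := fun _ => List ℕ) (Bool.rec (motive := fun _ => List ℕ) (Bool.rec (motive := fun _ => List ℕ) (rw216) (rw217) (Nat.ble 217 i)) (Bool.rec (motive := fun _ => List ℕ) (rw218) (rw219) (Nat.ble 219 i)) (Nat.ble 218 i)) (Bool.rec (motive := fun _ => List ℕ) (Bool.rec (motive := fun _ => List ℕ) (rw220) (rw221) (Nat.ble 221 i)) (Bool.rec (motive := fun _ => List ℕ) (rw222) (rw223) (Nat.ble 223 i)) (Nat.ble 222 i)) (Nat.ble 220 i)) (Nat.ble 216 i)) (Nat.ble 208 i)) (Bool.rec (motive := fun _ => List ℕ) (Bool.rec (motive := fun _ => List ℕ) (Bool.rec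 (motive := fun _ => List ℕ) (Bool.rec (motive := fun _ => List ℕ) (Bool.rec (motive := fun _ => List ℕ) (rw224) (rw225) (Nat.ble 225 i)) (Bool.rec (motive := fun _ => List ℕ) (rw226) (rw227) (Nat.ble 227 i)) (Nat.ble 226 i)) (Bool.rec (motive := fun _ => List ℕ) (Bool.rec (motive := fun _ => List ℕ) (rw228) (rw229) (Nat.ble 229 i)) (Bool.rec (motive := fun _ => List ℕ) (rw230) (rw231) (Nat.ble 231 i)) (Nat.ble 230 i)) (Nat.ble 228 i)) (Bool.rec (motive := fun _ => List ℕ) (Bool.rec (motive := fun _ => List ℕ) (Bool.rec (motive := fun _ => List ℕ) (rw232) (rw233) (Nat.ble 233 i)) (Bool.rec (motive := fun _ => List ℕ) (rw234) (rw235) (Nat.ble 235 i)) (Nat.ble 234 i)) (Bool.rec (motive := fun _ => List ℕ) (Bool.rec (motive := fun _ => List ℕ) (rw236) (rw237) (Nat.ble 237 i)) (Bool.rec (motive := fun _ => List ℕ) (rw238) (rw239)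 (Nat.ble 239 i)) (Nat.ble 238 i)) (Nat.ble 236 i)) (Nat.ble 232 i)) (Bool.rec (motive := fun _ => List ℕ) (Bool.rec (motive := fun _ => List ℕ) (Bool.rec (motive := fun _ => List ℕ) (Bool.rec (motive := fun _ => List ℕ) (rw240) (rw241) (Nat.ble 241 i)) (Bool.rec (motive := fun _ => List ℕ) (rw242) (rw243) (Nat.ble 243 i)) (Nat.ble 242 i)) (Bool.rec (motive := fun _ => List ℕ) (Bool.rec (motive := fun _ => List ℕ) (rw244) (rw245) (Nat.ble 245 i)) (Bool.rec (motive := fun _ => List ℕ) (rw246) (rw247) (Nat.ble 247 i)) (Nat.ble 246 i)) (Nat.ble 244 i)) (Bool.rec (motive := fun _ => List ℕ) (Bool.rec (motive := fun _ => List ℕ) (Bool.rec (motive := fun _ => List ℕ) (rw248) (rw249) (Nat.ble 249 i)) (Bool.rec (motive := fun _ => List ℕ) (rw250) (rw251) (Nat.ble 251 i)) (Nat.ble 250 i)) (Bool.rec (motive := fun _ => List ℕ) (Bool.rec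 (motive := fun _ => List ℕ) (rw252) (rw253) (Nat.ble 253 i)) (Bool.rec (motive := fun _ => List ℕ) (rw254) (rw255) (Nat.ble 255 i)) (Nat.ble 254 i)) (Nat.ble 252 i)) (Nat.ble 248 i)) (Nat.ble 240 i)) (Nat.ble 224 i)) (Nat.ble 192 i)) (Nat.ble 128 i)) (Bool.rec (motive := fun _ => List ℕ) (Bool.rec (motive := fun _ => List ℕ) (Bool.rec (motive := fun _ => List ℕ) (Bool.rec (motive := fun _ => List ℕ) (Bool.rec (motive := fun _ => List ℕ) (Bool.rec (motive := fun _ => List ℕ) (Bool.rec (motive := fun _ => List ℕ) (Bool.rec (motive := fun _ => List ℕ) (rw256) (rw257) (Nat.ble 257 i)) (Bool.rec (motive := fun _ => List ℕ) (rw258) (rw259) (Nat.ble 259 i)) (Nat.ble 258 i)) (Bool.rec (motive := fun _ => List ℕ) (Bool.rec (motive := fun _ => List ℕ) (rw260) (rw261) (Nat.ble 261 i)) (Bool.rec (motive := fun _ => List ℕ) (rw262) (rw263)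 (Nat.ble 263 i)) (Nat.ble 262 i)) (Nat.ble 260 i)) (Bool.rec (motive := fun _ => List ℕ) (Bool.rec (motive := fun _ => List ℕ) (Bool.rec (motive := fun _ => List ℕ) (rw264) (rw265) (Nat.ble 265 i)) (Bool.rec (motive := fun _ => List ℕ) (rw266) (rw267) (Nat.ble 267 i)) (Nat.ble 266 i)) (Bool.rec (motive := fun _ => List ℕ) (Bool.rec (motive := fun _ => List ℕ) (rw268) (rw269) (Nat.ble 269 i)) (Bool.rec (motive := fun _ => List ℕ) (rw270) (rw271) (Nat.ble 271 i)) (Nat.ble 270 i)) (Nat.ble 268 i)) (Nat.ble 264 i)) (Bool.rec (motive := fun _ => List ℕ) (Bool.rec (motive := fun _ => List ℕ) (Bool.rec (motive := fun _ => List ℕ) (Bool.rec (motive := fun _ => List ℕ) (rw272) (rw273) (Nat.ble 273 i)) (Bool.rec (motive := fun _ => List ℕ) (rw274) (rw275) (Nat.ble 275 i)) (Nat.ble 274 i)) (Bool.rec (motive := fun _ => List ℕ) (Bool.rec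 (motive := fun _ => List ℕ) (rw276) (rw277) (Nat.ble 277 i)) (Bool.rec (motive := fun _ => List ℕ) (rw278) (rw279) (Nat.ble 279 i)) (Nat.ble 278 i)) (Nat.ble 276 i)) (Bool.rec (motive := fun _ => List ℕ) (Bool.rec (motive := fun _ => List ℕ) (Bool.rec (motive := fun _ => List ℕ) (rw280) (rw281) (Nat.ble 281 i)) (Bool.rec (motive := fun _ => List ℕ) (rw282) (rw283) (Nat.ble 283 i)) (Nat.ble 282 i)) (Bool.rec (motive := fun _ => List ℕ) (Bool.rec (motive := fun _ => List ℕ) (rw284) (rw285) (Nat.ble 285 i)) (Bool.rec (motive := fun _ => List ℕ) (rw286) (rw287) (Nat.ble 287 i)) (Nat.ble 286 i)) (Nat.ble 284 i)) (Nat.ble 280 i)) (Nat.ble 272 i)) (Bool.rec (motive := fun _ => List ℕ) (Bool.rec (motive := fun _ => List ℕ) (Bool.rec (motive := fun _ => List ℕ) (Bool.rec (motive := fun _ => List ℕ) (Bool.rec (motive := fun _ => List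 ℕ) (rw288) (rw289) (Nat.ble 289 i)) (Bool.rec (motive := fun _ => List ℕ) (rw290) (rw291) (Nat.ble 291 i)) (Nat.ble 290 i)) (Bool.rec (motive := fun _ => List ℕ) (Bool.rec (motive := fun _ => List ℕ) (rw292) (rw293) (Nat.ble 293 i)) (Bool.rec (motive := fun _ => List ℕ) (rw294) (rw295) (Nat.ble 295 i)) (Nat.ble 294 i)) (Nat.ble 292 i)) (Bool.rec (motive := fun _ => List ℕ) (Bool.rec (motive := fun _ => List ℕ) (Bool.rec (motive := fun _ => List ℕ) (rw296) (rw297) (Nat.ble 297 i)) (Bool.rec (motive := fun _ => List ℕ) (rw298) (rw299) (Nat.ble 299 i)) (Nat.ble 298 i)) (Bool.rec (motive := fun _ => List ℕ) (Bool.rec (motive := fun _ => List ℕ) (rw300) (rw301) (Nat.ble 301 i)) (Bool.rec (motive := fun _ => List ℕ) (rw302) (rw303) (Nat.ble 303 i)) (Nat.ble 302 i)) (Nat.ble 300 i)) (Nat.ble 296 i)) (Bool.rec (motive := fun _ => List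 ℕ) (Bool.rec (motive := fun _ => List ℕ) (Bool.rec (motive := fun _ => List ℕ) (Bool.rec (motive := fun _ => List ℕ) (rw304) (rw305) (Nat.ble 305 i)) (Bool.rec (motive := fun _ => List ℕ) (rw306) (rw307) (Nat.ble 307 i)) (Nat.ble 306 i)) (Bool.rec (motive := fun _ => List ℕ) (Bool.rec (motive := fun _ => List ℕ) (rw308) (rw309) (Nat.ble 309 i)) (Bool.rec (motive := fun _ => List ℕ) (rw310) ([]) (Nat.ble 311 i)) (Nat.ble 310 i)) (Nat.ble 308 i)) ([]) (Nat.ble 312 i)) (Nat.ble 304 i)) (Nat.ble 288 i)) ([]) (Nat.ble 320 i)) ([]) (Nat.ble 384 i)) (Nat.ble 256 i))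
def sw0 : List ℕ := [0]
def sw1 : List ℕ := [2]
noncomputable def subW (i : ℕ) : List ℕ := (Bool.rec (motive := fun _ => List ℕ) (sw0) (sw1) (Nat.ble 1 i))

noncomputable def data : Data where
  w := 11
  mask := 2047
  tw := 14
  tmask := 16383
  hsh := 25
  lsh := 36
  ew := 39
  emask := 549755813887
  mw := 41
  mmask := 2199023255551
  jw := 19
  jmask := 524287
  bsh := 10
  bmask := 1023
  nc := 20
  fuel := 6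
  E := eT
  J := jT
  Mg := mgT
  JM := jmT
  relW := relW
  nrot := 311
  subW := subW
  nsub := 2

def M : ℕ := 1370
def n : ℕ := 352

def bases : List (List ℕ) := [
  [0, 0, 0, 0, 0],
  [1, 1, 1, 1, 1],
  [2, 2, 2, 2, 2, 2, 2],
  [3, 3, 3, 3, 3, 3, 3],
  [4, 4, 4, 4, 4, 4, 4, 4, 4, 4, 4],
  [5, 5, 5, 5, 5, 5, 5, 5, 5, 5, 5],
  [0, 4, 1, 5, 5, 5],
  [4, 4, 4, 0, 5, 1],
  [3, 1, 4, 2, 0, 3, 5, 0, 2, 0, 0, 3, 4, 1, 1, 5, 2, 1, 1],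
  [0, 0, 3, 4, 0, 0, 5, 2, 1, 1, 3, 1, 4, 2, 1, 3, 5, 0, 2],
  [3, 5, 0, 2, 0, 0, 3, 1, 4, 2, 0, 3, 4, 4, 1, 5, 5, 2, 1],
  [0, 3, 4, 4, 0, 5, 5, 2, 1, 3, 5, 0, 2, 1, 1, 3, 1, 4, 2],
  [0, 2, 1, 3, 0, 3, 3, 0, 2, 2, 2, 7],
  [6, 3, 3, 3, 1, 2, 2, 1, 2, 0, 3, 1],
  [6, 0, 7, 1],
  [6, 2, 7, 3],
  [6, 4, 7, 5],
  [0, 0, 0, 0, 3, 3, 3, 3, 1, 2, 2, 2, 9],
  [8, 3, 3, 3, 0, 2, 2, 2, 2, 1, 1, 1, 1],
  [8, 0, 9, 1],
  [8, 2, 9, 3],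
  [8, 4, 9, 5],
  [0, 0, 0, 2, 2, 2, 1, 3, 1, 2, 2, 2, 11],
  [10, 3, 3, 3, 0, 2, 0, 3, 3, 3, 1, 1, 1],
  [10, 0, 11, 1],
  [10, 2, 11, 3],
  [10, 4, 11, 5],
  [0, 0, 2, 0, 0, 3, 0, 0, 2, 0, 0, 3, 13],
  [12, 2, 1, 1, 3, 1, 1, 2, 1, 1, 3, 1, 1],
  [12, 0, 13, 1],
  [12, 2, 13, 3],
  [12, 4, 13, 5],
  [2, 4, 2, 4, 2, 4, 2, 4, 2, 4, 15],
  [14, 5, 3, 5, 3, 5, 3, 5, 3, 5, 3],
  [14, 0, 15, 1],
  [0, 14, 1, 15],
  [14, 2, 15, 3],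
  [2, 14, 3, 15],
  [14, 4, 15, 5],
  [4, 14, 5, 15],
  [0, 2, 5, 3, 3, 0, 3, 4, 0, 3, 0, 5, 17],
  [16, 4, 1, 2, 1, 5, 2, 1, 2, 2, 4, 3, 1],
  [16, 0, 17, 1],
  [0, 16, 1, 17],
  [16, 2, 17, 3],
  [2, 16, 3, 17],
  [16, 4, 17, 5],
  [4, 16, 5, 17],
  [14, 16, 15, 17],
  [0, 0, 3, 0, 4, 3, 0, 0, 3, 0, 4, 3, 19],
  [18, 2, 5, 1, 2, 1, 1, 2, 5, 1, 2, 1, 1],
  [18, 0, 19, 1],
  [0, 18, 1, 19],
  [18, 2, 19, 3],
  [2, 18, 3, 19],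
  [18, 4, 19, 5],
  [4, 18, 5, 19],
  [14, 18, 15, 19],
  [18, 16, 19, 17],
  [16, 18, 17, 19]]

def rots : List (ℕ × ℕ) := [(7, 3), (6, 0), (13, 9), (18, 4), (49, 9), (52, 0), (51, 1), (9, 4), (43, 0), (12, 7), (10, 10), (23, 6), (0, 1), (27, 1), (40, 0), (40, 8), (8, 9), (27, 9), (23, 4), (12, 4), (49, 3), (11, 0), (17, 0), (17, 3), (11, 11), (9, 0), (0, 4), (42, 1), (10, 4), (9, 1), (40, 5), (49, 0), (17, 1), (0, 2), (8, 4), (7, 5), (1, 1), (22, 6), (41, 2), (11, 16), (10, 18), (9, 11), (8, 1), (13, 4), (12, 2), (50, 11), (28, 5), (8, 18), (50, 5), (6, 2), (23, 12), (18, 10), (13, 11), (23, 11), (17, 8), (43, 2), (41, 12), (41, 4), (1, 2), (8, 13), (51, 3), (10, 14), (50, 6), (8, 17), (22, 8), (17, 10), (23, 5), (28, 1), (8, 3), (2, 4), (2, 1), (9, 18), (22, 5), (18, 6), (17, 9), (50, 1), (54, 0), (12, 9), (40, 1), (13,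 5), (41, 3), (10, 17), (11, 18), (2, 3), (18, 8), (32, 2), (32, 4), (13, 6), (17, 11), (50, 10), (50, 4), (22, 3), (22, 4), (12, 1), (41, 6), (12, 10), (8, 8), (41, 8), (28, 7), (22, 10), (13, 8), (41, 9), (22, 9), (9, 7), (12, 8), (8, 16), (3, 1), (23, 9), (13, 10), (13, 2), (40, 9), (28, 4), (53, 3), (9, 15), (33, 6), (49, 11), (28, 10), (10, 0), (40, 4), (9, 10), (23, 1), (49, 8), (17, 4), (9, 2), (17, 5), (41, 11), (10, 11), (18, 3), (18, 2), (23, 3), (49, 2), (33, 4), (40, 3), (3, 5), (13, 3), (8, 11), (12, 5), (17, 6), (33, 10), (33, 2), (7, 2), (7, 0), (10, 13), (7, 1), (55, 1), (41, 1), (41, 10), (6, 1), (10, 12), (49, 10), (39, 0), (32, 7), (8, 12), (11, 17), (4, 1), (32, 5), (46, 1), (4, 9), (49, 4), (32, 3), (56, 0), (9, 3), (32, 1), (40, 7), (6, 5), (7, 4), (5, 9), (6, 3), (41, 5), (6, 4), (10, 15), (40, 2), (50,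 2), (8, 6), (11, 5), (10, 1), (40, 11), (5, 4), (10, 16), (38, 3), (50, 8), (11, 6), (8, 15), (47, 2), (5, 5), (55, 3), (46, 3), (11, 10), (33, 1), (5, 1), (33, 3), (16, 0), (14, 0), (15, 0), (12, 11), (16, 2), (14, 2), (15, 2), (21, 0), (19, 0), (20, 0), (17, 12), (21, 2), (19, 2), (20, 2), (26, 0), (24, 0), (25, 0), (22, 12), (26, 2), (24, 2), (25, 2), (31, 0), (29, 0), (30, 0), (27, 12), (31, 2), (29, 2), (30, 2), (39, 1), (34, 0), (33, 0), (35, 1), (38, 0), (37, 1), (36, 0), (38, 2), (36, 2), (35, 3), (32, 10), (39, 3), (37, 3), (34, 2), (46, 0), (47, 1), (43, 1), (45, 1), (44, 0), (42, 0), (41, 0), (43, 3), (44, 2), (47, 3), (45, 3), (42, 2), (46, 2), (40, 12), (48, 3), (52, 1), (51, 0), (55, 0), (59, 1), (56, 1), (54, 1), (53, 0), (58, 0), (57, 1), (50, 0), (53, 2), (55, 2), (52, 3), (58, 2), (51, 2), (56, 3), (54, 3),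 (49, 12), (59, 3), (27, 10), (40, 10), (17, 7), (28, 12), (9, 17), (28, 6), (52, 2), (12, 6), (50, 12), (0, 3), (10, 8), (4, 10), (8, 2), (22, 1), (22, 0), (50, 7), (28, 2), (49, 5), (11, 4), (33, 7), (9, 8), (9, 14), (50, 3), (13, 7), (28, 11), (49, 6), (22, 7), (11, 2), (4, 6), (11, 1), (33, 5), (10, 9), (50, 9), (18, 9), (23, 7), (11, 8), (8, 0), (27, 7), (17, 2), (9, 16), (4, 3), (11, 14), (27, 4), (9, 12)]

def subsL : List (List ℕ) := [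
  [0],
  [2]]

end Cfsg.Agent.Lib.Helper6.M22TC.T1
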